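import Cfsg.Agent.Lib.CIT.SEOdd.Endgame

/-!
# `W` lies in the odd core
-/

set_option autoImplicit false
set_option linter.style.haveILetI false
set_option linter.unusedSectionVars false

namespace Cfsg.Agent.CIT.SEOdd

open Subgroup Cfsg.Agent.Involutions
open Cfsg.Agent.Coprime.OddInvariant.PPrimeNilpotent (Pair)

universe u

variable {G : Type u} [Group G] [Finite G] {M W : Subgroup G}

/-- Lifts of involutions and of 2-elements modulo an odd normal subgroup. -/
theorem exists_pow_two_part (x : G) (f : ℕ) (hx : ∃ k : ℕ, f = 2 ^ k) :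
    ∃ m : ℕ, (∃ k : ℕ, orderOf (x ^ m) = 2 ^ k) ∧ m % f = 1 % f := by
  obtain ⟨k, rfl⟩ := hx
  obtain ⟨a, j, hj, hord⟩ := Nat.exists_eq_pow_mul_and_not_dvd (orderOf_pos x).ne' 2 (by norm_num)
  have hjo : Odd j := Nat.not_even_iff_odd.1 fun e => hj (even_iff_two_dvd.1 e)
  obtain ⟨c, hc1, hc2⟩ := Nat.chineseRemainder ((Nat.coprime_two_right.2 hjo).pow_right k) 0 1
  refine ⟨c, ?_, hc2⟩
  obtain ⟨d, hd⟩ := Nat.dvd_of_mod_eq_zero (by simpa [Nat.ModEq] using hc1 : c % j = 0)
  have h1 : (x ^ c) ^ 2 ^ a = 1 := by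
    rw [← pow_mul, hd, show j * d * 2 ^ a = orderOf x * d by rw [hord]; ring, pow_mul,
      pow_orderOf_eq_one, one_pow]
  obtain ⟨i, -, hi⟩ := (Nat.dvd_prime_pow Nat.prime_two).1 (orderOf_dvd_of_pow_eq_one h1)
  exact ⟨i, hi⟩

/-- Passage to the quotient by the odd core. -/
theorem Hyp.map_mk (h : Hyp M W) (hOW : Cfsg.oddCore G ≤ W) :
    Hyp (M.map (QuotientGroup.mk' (Cfsg.oddCore G))) (W.map (QuotientGroup.mk' (Cfsg.oddCore G))) := by
  haveI : (Cfsg.oddCore G).Normal := PLocal.Cores.pPrimeCore_normal'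
  set O := Cfsg.oddCore G with hO
  set π := QuotientGroup.mk' O with hπ
  have hker : π.ker = O := QuotientGroup.ker_mk' O
  have hOM : O ≤ M := hOW.trans h.le
  have hmemM : ∀ {x : G}, π x ∈ M.map π → x ∈ M := fun {x} hx => by
    have h1 : x ∈ (M.map π).comap π := hx
    rwa [Subgroup.comap_map_eq, hker, sup_eq_left.2 hOM] at h1
  have hmemW : ∀ {x : G}, π x ∈ W.map π → x ∈ W := fun {x} hx => by
    have h1 : x ∈ (W.map π).comap π := hx
    rwa [Subgroup.comap_map_eq, hker, sup_eq_left.2 hOW] at h1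
  -- lift of an involution
  have hlift : ∀ {y : G ⧸ O}, orderOf y = 2 → ∃ t : G, π t = y ∧ orderOf t = 2 := by
    intro y hy
    obtain ⟨x, rfl⟩ := QuotientGroup.mk'_surjective O y
    obtain ⟨m, ⟨k, hk⟩, hm⟩ := exists_pow_two_part x 2 ⟨1, rfl⟩
    refine ⟨x ^ m, by rw [map_pow, ← pow_mod_orderOf, hy, hm]; simp [hπ], ?_⟩
    have he : π (x ^ m) = π x := by rw [map_pow, ← pow_mod_orderOf, hy, hm]; simp
    have hk1 : orderOf (x ^ m) ∣ 2 := by
      refine orderOf_dvd_of_pow_eq_one ?_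
      have h2 : (x ^ m) ^ 2 ∈ O := by
        rw [← hker, MonoidHom.mem_ker, map_pow, he, ← hy, pow_orderOf_eq_one]
      have ho : Odd (orderOf ((x ^ m) ^ 2)) :=
        Cores.oddCore_odd.of_dvd_nat (Subgroup.orderOf_dvd_natCard O h2)
      have hd := (orderOf_pow_dvd (x := x ^ m) 2)
      rw [hk] at hd
      obtain ⟨i, -, hi⟩ := (Nat.dvd_prime_pow Nat.prime_two).1 hd
      rcases i with _ | i
      · exact orderOf_eq_one_iff.1 hi
      · rw [hi] at ho
        exact absurd ho (by simp [Nat.not_odd_iff_even, Nat.even_pow])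
    rcases (Nat.dvd_prime Nat.prime_two).1 hk1 with e | e
    · exfalso
      rw [orderOf_eq_one_iff] at e
      rw [e, map_one] at he
      rw [← he, orderOf_one] at hy
      omega
    · exact e
  have hne : M.map π ≠ ⊤ := fun e => h.emb.1 (eq_top_iff.2 fun x _ => hmemM (e ▸ mem_top (π x)))
  have horder : ∀ {t : G}, orderOf t = 2 → orderOf (π t) = 2 := fun {t} ht => by
    rcases (Nat.dvd_prime Nat.prime_two).1 (ht ▸ orderOf_map_dvd π t) with e | e
    · exfalso
      rw [orderOf_eq_one_iff, ← MonoidHom.mem_ker, hker] at e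
      exact absurd (Cores.oddCore_odd.of_dvd_nat (Subgroup.orderOf_dvd_natCard O e))
        (by rw [ht]; decide)
    · exact e
  obtain ⟨t₀, ht₀M, ht₀⟩ := StronglyEmbedded.exists_involution_mem h.emb.2.1
  refine ⟨StronglyEmbedded.of_conj hne ?_ ?_, Subgroup.map_mono h.le, ?_, ?_, ?_, ?_, ?_⟩
  · have := Subgroup.orderOf_dvd_natCard (M.map π) (mem_map_of_mem π ht₀M)
    rw [horder ht₀] at this
    exact even_iff_two_dvd.2 this
  · intro y hy hy2 g hg
    obtain ⟨t, rfl, ht⟩ := hlift hy2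
    obtain ⟨g, rfl⟩ := QuotientGroup.mk'_surjective O g
    rw [← map_inv, ← map_mul, ← map_mul] at hg
    exact mem_map_of_mem π (StronglyEmbedded.mem_of_conj h.emb (hmemM hy) ht (hmemM hg))
  · rintro _ ⟨m, hm, rfl⟩ _ ⟨w, hw, rfl⟩
    exact ⟨m * w * m⁻¹, h.norm m hm w hw, by simp⟩
  · exact h.odd.of_dvd_nat (Subgroup.card_map_dvd W π)
  · intro y hy hyo s hs hs2 hc
    obtain ⟨t, rfl, ht⟩ := hlift hs2
    obtain ⟨x, hxM, rfl⟩ := hy
    have htM : t ∈ M := hmemM hs
    -- `t` fixes the coset `x O`, so centralises an element of it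
    have hcomm : t * x * t⁻¹ * x⁻¹ ∈ O := by
      rw [← hker, MonoidHom.mem_ker, map_mul, map_mul, map_mul, map_inv, map_inv, ← hc.eq]
      group
    obtain ⟨c, hc', hct⟩ : ∃ c, π c = π x ∧ Commute c t := by
      set s' := x * t * x⁻¹ with hs'
      have hs'2 : orderOf s' = 2 := by rw [hs', Basic.orderOf_conj, ht]
      have hprod : t * s' ∈ O := by
        rw [hs', ← hker, MonoidHom.mem_ker, map_mul, map_mul, map_mul, map_inv, hc.eq,
          mul_inv_cancel_right, ← map_mul, Basic.inv_sq_one ht, map_one]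
      obtain ⟨d, hd, hds⟩ := Basic.exists_conj_of_odd ht hs'2
        (Cores.oddCore_odd.of_dvd_nat (Subgroup.orderOf_dvd_natCard O hprod))
      have hdO : d ∈ O := (zpowers_le.2 hprod) hd
      refine ⟨d⁻¹ * x, ?_, mul_inv_eq_iff_eq_mul.1 ?_⟩
      · rw [map_mul, map_inv, show π d = 1 by rw [← MonoidHom.mem_ker, hker]; exact hdO, inv_one, one_mul]
      · rw [show d⁻¹ * x * t * (d⁻¹ * x)⁻¹ = d⁻¹ * (x * t * x⁻¹) * d by group, ← hs', ← hds]
        group
    have hcM : c ∈ M := hmemM (hc' ▸ mem_map_of_mem π hxM)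
    refine hc' ▸ mem_map_of_mem π (h.cent c hcM ?_ t htM ht hct)
    rw [← hc'] at hyo
    have h1 : c ^ orderOf (π c) ∈ O :=
      (QuotientGroup.eq_one_iff _).1 (show π (c ^ orderOf (π c)) = 1 by rw [map_pow, pow_orderOf_eq_one])
    have h2 := Cores.oddCore_odd.of_dvd_nat (Subgroup.orderOf_dvd_natCard O h1)
    have h3 : orderOf c ∣ orderOf (π c) * orderOf (c ^ orderOf (π c)) :=
      orderOf_dvd_of_pow_eq_one (by rw [pow_mul, pow_orderOf_eq_one])
    exact (hyo.mul h2).of_dvd_nat h3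
  · obtain ⟨x, y, hx, hy, hxy⟩ := h.pair
    refine ⟨π x, π y, mem_map_of_mem π hx, mem_map_of_mem π hy, horder hxy.1, horder hxy.2.1,
      hxy.2.2.1.map π, fun e => hxy.2.2.2 ?_⟩
    have h1 : x⁻¹ * y ∈ O := QuotientGroup.eq.1 e
    have h2 : (x⁻¹ * y) * (x⁻¹ * y) = 1 := by
      rw [Basic.inv_eq hxy.1, show x * y * (x * y) = x * (y * x) * y by group, ← hxy.2.2.1.eq,
        show x * (x * y) * y = (x * x) * (y * y) by group, Basic.inv_sq_one hxy.1,
        Basic.inv_sq_one hxy.2.1, one_mul]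
    by_contra hne'
    have := Cores.oddCore_odd.of_dvd_nat (Subgroup.orderOf_dvd_natCard O h1)
    rw [Basic.orderOf_two_iff.2 ⟨h2, fun e' => hne' (inv_mul_eq_one.1 e')⟩] at this
    exact absurd this (by decide)
  · rintro _ ⟨x, hx, rfl⟩ _ ⟨y, hy, rfl⟩ ⟨i, hi⟩ ⟨j, hj⟩
    rw [← map_pow] at hi hj
    obtain ⟨k, hk⟩ := h.closed x hx y hy ⟨i, hmemW hi⟩ ⟨j, hmemW hj⟩
    exact ⟨k, by rw [← map_mul, ← map_pow]; exact mem_map_of_mem π hk⟩

theorem le_oddCore_aux : ∀ (n : ℕ) (G : Type u) [Group G] [Finite G], Nat.card G ≤ n →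
    ∀ M W : Subgroup G, Hyp M W → W ≤ Cfsg.oddCore G := by
  intro n
  induction n with
  | zero => intro G _ _ hn; have := (Nat.card_pos : 0 < Nat.card G); omega
  | succ n ih =>
    intro G _ _ hn M W h
    haveI : (Cfsg.oddCore G).Normal := PLocal.Cores.pPrimeCore_normal'
    by_cases hO : Cfsg.oddCore G = ⊥
    · rw [hO, le_bot_iff]
      by_contra hW
      have hmin : Minimal G := fun L hL M' W' h' =>
        ih L (by
          have h2 : Nat.card L < Nat.card G := lt_of_le_of_ne (Subgroup.card_le_card_group L)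
            fun e => hL (Subgroup.card_eq_iff_eq_top L |>.1 e)
          omega) M' W' h'
      obtain ⟨S, hs⟩ := h.small hmin hO hW
      exact h.small_false hs hW
    · obtain ⟨x, y, hxM, hyM, hxy⟩ := h.pair
      have hOW : Cfsg.oddCore G ≤ W := h.le_of_pair hxy hxM hyM Cores.oddCore_odd
        (le_normalizer_of_normal (mem_top x)) (le_normalizer_of_normal (mem_top y))
      have hlt : Nat.card (G ⧸ Cfsg.oddCore G) < Nat.card G := by
        have h1 := (Cfsg.oddCore G).card_mul_index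
        have h2 : 1 < Nat.card (Cfsg.oddCore G) := (Subgroup.one_lt_card_iff_ne_bot _).2 hO
        rw [← Subgroup.index] at *
        rw [← h1]
        exact lt_mul_of_one_lt_left (Nat.pos_of_ne_zero Subgroup.index_ne_zero_of_finite) h2
      have h1 := ih _ (by omega) _ _ (h.map_mk hOW)
      rw [show Cfsg.oddCore (G ⧸ Cfsg.oddCore G) = ⊥ from Cores.pPrimeCore_quotient_self 2, le_bot_iff,
        Subgroup.map_eq_bot_iff, QuotientGroup.ker_mk'] at h1
      exact h1

/-- The odd normal subgroup of a strongly embedded subgroup which is 2-closed modulo it. -/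
theorem Hyp.le_oddCore (h : Hyp M W) : W ≤ Cfsg.oddCore G :=
  le_oddCore_aux _ G le_rfl M W h

end Cfsg.Agent.CIT.SEOdd
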