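import Cfsg.Agent.Lib.CIT.SEOdd.Group
import Cfsg.Agent.Lib.SECore.NoBad
import Cfsg.Agent.Lib.Cores.Basic

/-!
# The index of `M` in a minimal counterexample

In a group without odd core in which all proper subgroups satisfy the conclusion, every fixed space of `W`
has dimension at most four fifths of the degree, so `n (|S| - 1) ≤ 5 |S| (r - 1)`.
-/

set_option autoImplicit false
set_option linter.style.haveILetI false
set_option linter.unusedSectionVars false

namespace Cfsg.Agent.CIT.SEOdd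

open Subgroup Cfsg.Agent.Involutions MulAction
open Cfsg.Agent.Coprime.OddInvariant.PPrimeNilpotent (Pair)

universe u

variable {G : Type u} [Group G] [Finite G] {M W : Subgroup G}

/-- No bad element: a conjugate of `W` meets `M` inside `W`. -/
theorem Hyp.mem_of_conj (h : Hyp M W) {g y : G} (hy : y ∈ M) (hgy : g * y * g⁻¹ ∈ W) : y ∈ W :=
  Cfsg.Agent.SECore.Hyp.mem_of_conj_mem
    ⟨h.emb, h.le, h.le_normalizer, h.odd, fun t ht ht2 y hy hyo hc => h.cent y hy hyo t ht ht2 hc,
      h.closed⟩ hy hgy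

/-- The induction hypothesis on proper subgroups. -/
def Minimal (G : Type u) [Group G] : Prop :=
  ∀ L : Subgroup G, L ≠ ⊤ → ∀ M' W' : Subgroup L, Hyp M' W' → W' ≤ Cfsg.oddCore L

theorem eq_bot_of_normal_odd (hO : Cfsg.oddCore G = ⊥) {N : Subgroup G} (hn : N.Normal)
    (ho : Odd (Nat.card N)) : N = ⊥ := by
  haveI := hn
  exact eq_bot_iff.2 (hO ▸ Cores.le_oddCore ho)

/-- `W` does not normalise all its conjugates. -/
theorem Hyp.exists_not_le_normalizer (h : Hyp M W) (hO : Cfsg.oddCore G = ⊥) (hW : W ≠ ⊥) :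
    ∃ g : G, ¬ W.map (MulAut.conj g).toMonoidHom ≤ normalizer (W : Set G) := by
  by_contra hall
  push Not at hall
  set N := normalClosure (W : Set G) with hN
  have hWN : W ≤ N := subset_normalClosure
  have hNn : N ≤ normalizer (W : Set G) := by
    rw [hN, normalClosure, closure_le]
    intro x hx
    obtain ⟨w, hw, hwx⟩ := Group.mem_conjugatesOfSet_iff.1 hx
    obtain ⟨g, rfl⟩ := isConj_iff.1 hwx
    exact hall g ⟨w, hw, rfl⟩
  haveI : (W.subgroupOf N).Normal := normal_subgroupOf_of_le_normalizer hNn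
  have h1 : W.subgroupOf N ≤ Cfsg.oddCore N := Cores.le_oddCore
    (by rw [Nat.card_congr (subgroupOfEquivOfLe hWN).toEquiv]; exact h.odd)
  haveI : (Cfsg.oddCore N).Characteristic := inferInstance
  have hbot := eq_bot_of_normal_odd hO (Cores.normal_map_subtype N (Cfsg.oddCore N))
    (by rw [card_subtype]; exact Cores.oddCore_odd)
  refine hW (eq_bot_iff.2 fun w hw => ?_)
  rw [← hbot]
  exact ⟨⟨w, hWN hw⟩, h1 hw, rfl⟩

/-- The odd core of a proper subgroup with two commuting involutions of `M`, outside `M`. -/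
theorem Hyp.le_normalizer_of_minimal (h : Hyp M W) (hmin : Minimal G) {L : Subgroup G} (hL : L ≠ ⊤)
    (hWL : W ≤ L) {a b : G} (hab : Pair a b) (haM : a ∈ M) (hbM : b ∈ M) (haL : a ∈ L) (hbL : b ∈ L) :
    L ≤ normalizer (W : Set G) := by
  by_cases hLM : L ≤ M
  · exact hLM.trans h.le_normalizer
  have h1 := hmin L hL _ _ (h.subgroupOf hLM hab haM hbM haL hbL)
  set O := (Cfsg.oddCore L).map L.subtype with hOdef
  have hOodd : Odd (Nat.card O) := by rw [hOdef, card_subtype]; exact Cores.oddCore_odd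
  haveI : (Cfsg.oddCore L).Normal := PLocal.Cores.pPrimeCore_normal'
  have hnorm : L ≤ normalizer (O : Set G) := by
    rw [hOdef]
    intro x hx
    refine mem_normalizer_iff.2 fun z => ⟨?_, ?_⟩
    · rintro ⟨w, hw, rfl⟩
      exact ⟨⟨x, hx⟩ * w * ⟨x, hx⟩⁻¹, Subgroup.Normal.conj_mem inferInstance w hw _, rfl⟩
    · rintro ⟨w, hw, hwz⟩
      refine ⟨⟨x, hx⟩⁻¹ * w * ⟨x, hx⟩, ?_, ?_⟩
      · have := Subgroup.Normal.conj_mem (inferInstance : (Cfsg.oddCore L).Normal) w hw ⟨x, hx⟩⁻¹
        rwa [inv_inv] at this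
      · show x⁻¹ * (w : G) * x = z
        rw [show (w : G) = x * z * x⁻¹ from hwz]; group
  have hOW : O ≤ W := h.le_of_pair hab haM hbM hOodd (hnorm haL) (hnorm hbL)
  have hWO : W ≤ O := fun w hw => ⟨⟨w, hWL hw⟩, h1 hw, rfl⟩
  rw [le_antisymm hWO hOW]
  exact hnorm

/-- Five fixed spaces meet trivially, so `5 dim V^W ≤ 4 dim V`. -/
theorem Hyp.five_fixed (h : Hyp M W) (hmin : Minimal G) (hO : Cfsg.oddCore G = ⊥) (hW : W ≠ ⊥)
    {n : ℕ} (ρ : Representation ℂ G (Fin n → ℂ)) [ρ.IsIrreducible] {χ : Cfsg.IrrCharacter G}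
    (hχ : ρ.character = (χ : G → ℂ)) (hne : χ ≠ Characters.trivIrr G) :
    5 * Module.finrank ℂ (fixed ρ W) ≤ 4 * n := by
  obtain ⟨g, hg⟩ := h.exists_not_le_normalizer hO hW
  obtain ⟨a, b, haM, hbM, hab⟩ := h.pair
  set C : G → Subgroup G := fun x => W.map (MulAut.conj (x * g)).toMonoidHom with hC
  have hCmap : ∀ x y : G, (C y).map (MulAut.conj x).toMonoidHom = C (x * y) := fun x y => by
    simp only [hC, map_map, mul_assoc x y g, map_mul]
    rfl
  set L := W ⊔ C 1 ⊔ C a ⊔ C b ⊔ C (a * b) with hLdef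
  have ha2 := Basic.inv_sq_one hab.1
  have hb2 := Basic.inv_sq_one hab.2.1
  have hc : a * b = b * a := hab.2.2.1
  have hWmap : ∀ x ∈ M, W.map (MulAut.conj x).toMonoidHom = W := fun x hx => by
    ext z
    rw [Subgroup.mem_map_equiv, MulAut.conj_symm_apply]
    constructor
    · intro hz
      have := h.norm x hx _ hz
      rwa [show x * (x⁻¹ * z * x) * x⁻¹ = z by group] at this
    · intro hz
      have := h.norm x⁻¹ (inv_mem hx) _ hz
      rwa [inv_inv] at this
  have hLa : L.map (MulAut.conj a).toMonoidHom = L := by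
    simp only [hLdef, Subgroup.map_sup, hWmap a haM, hCmap, mul_one, ← mul_assoc, ha2, one_mul]
    ac_rfl
  have hLb : L.map (MulAut.conj b).toMonoidHom = L := by
    have e : b * (a * b) = a := by rw [← mul_assoc, ← hc, mul_assoc, hb2, mul_one]
    simp only [hLdef, Subgroup.map_sup, hWmap b hbM, hCmap, mul_one, hb2, ← hc, e]
    ac_rfl
  have hnormz : ∀ x : G, L.map (MulAut.conj x).toMonoidHom = L → x ∈ normalizer (L : Set G) :=
    fun x hx => mem_normalizer_iff.2 fun z => by
      conv_rhs => rw [← hx]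
      rw [Subgroup.mem_map_equiv, MulAut.conj_symm_apply]
      rw [show x⁻¹ * (x * z * x⁻¹) * x = z by group]
  have hWL : W ≤ L := le_sup_left.trans (le_sup_left.trans (le_sup_left.trans le_sup_left))
  have hgL : C 1 ≤ L := le_sup_right.trans (le_sup_left.trans (le_sup_left.trans le_sup_left))
  have hgn : ¬ C 1 ≤ normalizer (W : Set G) := by simpa [hC] using hg
  have hLtop : L = ⊤ := by
    set L' := L ⊔ closure ({a, b} : Set G) with hL'
    by_cases htop : L' = ⊤
    · have hLn : L.Normal := normalizer_eq_top_iff.1 (eq_top_iff.2 (htop ▸ sup_le L.le_normalizer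
        ((closure_le _).2 (by rintro x (rfl | rfl); exacts [hnormz _ hLa, hnormz _ hLb]))))
      have heven : Even (Nat.card L) := Nat.not_odd_iff_even.1 fun ho =>
        hW (eq_bot_iff.2 (eq_bot_of_normal_odd hO hLn ho ▸ hWL))
      obtain ⟨i, hiL, hi⟩ := StronglyEmbedded.exists_involution_mem heven
      have hall : ∀ {x : G}, orderOf x = 2 → x ∈ L := fun {x} hx => by
        obtain ⟨c, hc⟩ := isConj_iff.1 (StronglyEmbedded.isConj_involutions h.emb hi hx)
        exact hc ▸ hLn.conj_mem i hiL c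
      rw [← htop, hL', left_eq_sup]
      exact (closure_le L).2 (by rintro x (rfl | rfl); exacts [hall hab.1, hall hab.2.1])
    · refine absurd (hgL.trans (le_sup_left.trans (h.le_normalizer_of_minimal hmin htop
        (hWL.trans le_sup_left) hab haM hbM ?_ ?_))) hgn
      · exact le_sup_right (α := Subgroup G) (subset_closure (Or.inl rfl))
      · exact le_sup_right (α := Subgroup G) (subset_closure (Or.inr rfl))
  have hbot : fixed ρ W ⊓ fixed ρ (C 1) ⊓ fixed ρ (C a) ⊓ fixed ρ (C b) ⊓ fixed ρ (C (a * b)) = ⊥ := by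
    rw [eq_bot_iff, ← fixed_top_eq_bot ρ hχ hne, ← hLtop, hLdef]
    refine le_trans (inf_le_inf_right _ (le_trans (inf_le_inf_right _ (le_trans (inf_le_inf_right _
      (le_fixed_sup ρ _ _)) (le_fixed_sup ρ _ _))) (le_fixed_sup ρ _ _))) (le_fixed_sup ρ _ _)
  have hdim : ∀ x : G, Module.finrank ℂ (fixed ρ W) ≤ Module.finrank ℂ (fixed ρ (C x)) :=
    fun x => finrank_fixed_conj_ge ρ W _
  have h1 := finrank_add_le (fixed ρ W) (fixed ρ (C 1))
  have h2 := finrank_add_le (fixed ρ W ⊓ fixed ρ (C 1)) (fixed ρ (C a))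
  have h3 := finrank_add_le (fixed ρ W ⊓ fixed ρ (C 1) ⊓ fixed ρ (C a)) (fixed ρ (C b))
  have h4 := finrank_add_le (fixed ρ W ⊓ fixed ρ (C 1) ⊓ fixed ρ (C a) ⊓ fixed ρ (C b))
    (fixed ρ (C (a * b)))
  rw [hbot, finrank_bot] at h4
  have hn : Module.finrank ℂ (Fin n → ℂ) = n := by simp
  rw [hn] at h1 h2 h3 h4
  have := hdim 1; have := hdim a; have := hdim b; have := hdim (a * b)
  omega

/-- The index bound. -/
theorem Hyp.index_le (h : Hyp M W) (hmin : Minimal G) (hO : Cfsg.oddCore G = ⊥) (hW : W ≠ ⊥)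
    {S : Sylow 2 G} (hS : (S : Subgroup G) ≤ h.K) :
    (M.index : ℝ) * ((Nat.card (S : Subgroup G) : ℝ) - 1) ≤
      5 * (Nat.card (S : Subgroup G) : ℝ) * ((h.K.relIndex M : ℝ) - 1) := by
  have hb := h.index_bound hS (β := 4 / 5) fun n ρ hρ χ hχ hne => by
    haveI := hρ
    have h5 : (5 * Module.finrank ℂ (fixed ρ W) : ℝ) ≤ 4 * n := by
      exact_mod_cast h.five_fixed hmin hO hW ρ hχ hne
    have hK : (0 : ℝ) ≤ (Nat.card h.K : ℝ) * Module.finrank ℂ (fixed ρ h.K) := by positivity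
    have hWc : (0 : ℝ) ≤ Nat.card W := Nat.cast_nonneg _
    nlinarith
  linarith

end Cfsg.Agent.CIT.SEOdd
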