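import Mathlib
import Cfsg.Prelude.Def_Characters
import Cfsg.Agent.Lib.Characters.Inner

/-!
# Fixed spaces of subgroups in a representation
-/

set_option autoImplicit false
set_option linter.unusedSectionVars false

namespace Cfsg.Agent.CIT.SEOdd

open Module
open scoped Classical ComplexConjugate

universe u v

variable {G : Type u} [Group G] {V : Type v} [AddCommGroup V] [Module ℂ V] [FiniteDimensional ℂ V]

/-- The vectors fixed by a subgroup. -/
noncomputable def fixed (ρ : Representation ℂ G V) (H : Subgroup G) : Submodule ℂ V :=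
  Representation.invariants (ρ.comp H.subtype)

theorem mem_fixed {ρ : Representation ℂ G V} {H : Subgroup G} {v : V} :
    v ∈ fixed ρ H ↔ ∀ h ∈ H, ρ h v = v :=
  ⟨fun hv h hh => hv ⟨h, hh⟩, fun hv h => hv _ h.2⟩

theorem fixed_mono (ρ : Representation ℂ G V) {H K : Subgroup G} (h : H ≤ K) :
    fixed ρ K ≤ fixed ρ H :=
  fun _ hv => mem_fixed.2 fun x hx => mem_fixed.1 hv x (h hx)

theorem le_fixed_sup (ρ : Representation ℂ G V) (H K : Subgroup G) :
    fixed ρ H ⊓ fixed ρ K ≤ fixed ρ (H ⊔ K) := fun v hv => mem_fixed.2 fun x hx => by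
  rw [Subgroup.sup_eq_closure] at hx
  induction hx using Subgroup.closure_induction with
  | mem y hy => exact hy.elim (mem_fixed.1 hv.1 y) (mem_fixed.1 hv.2 y)
  | one => simp
  | mul y z _ _ hy hz => rw [map_mul, Module.End.mul_apply, hz, hy]
  | inv y _ hy =>
    conv_lhs => rw [← hy]
    rw [← Module.End.mul_apply, ← map_mul, inv_mul_cancel, map_one, Module.End.one_apply]

theorem finrank_fixed_conj_ge (ρ : Representation ℂ G V) (H : Subgroup G) (g : G) :
    finrank ℂ (fixed ρ H) ≤ finrank ℂ (fixed ρ (H.map (MulAut.conj g).toMonoidHom)) := by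
  have hinj : Function.Injective (ρ g) := fun v w h => by
    have := congrArg (ρ g⁻¹) h
    simpa [← Module.End.mul_apply, ← map_mul] using this
  rw [LinearEquiv.finrank_eq (Submodule.equivMapOfInjective (ρ g) hinj (fixed ρ H))]
  refine Submodule.finrank_mono ?_
  rintro _ ⟨v, hv, rfl⟩
  refine mem_fixed.2 ?_
  rintro _ ⟨x, hx, rfl⟩
  show ρ (g * x * g⁻¹) (ρ g v) = ρ g v
  rw [← Module.End.mul_apply, ← map_mul, inv_mul_cancel_right, map_mul, Module.End.mul_apply,
    mem_fixed.1 hv x hx]

theorem finrank_add_le (U W : Submodule ℂ V) :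
    finrank ℂ U + finrank ℂ W ≤ finrank ℂ ↥(U ⊓ W) + finrank ℂ V := by
  rw [← Submodule.finrank_sup_add_finrank_inf_eq, add_comm]
  exact Nat.add_le_add_left (U ⊔ W).finrank_le _

theorem card_mul_finrank_fixed (ρ : Representation ℂ G V) (H : Subgroup G) [Fintype H] :
    ∑ h : H, ρ.character h = (Nat.card H : ℂ) * finrank ℂ (fixed ρ H) := by
  set σ : Representation ℂ H V := ρ.comp H.subtype with hσ
  haveI : Invertible (Fintype.card H : ℂ) :=
    invertibleOfNonzero (Nat.cast_ne_zero.2 Fintype.card_ne_zero)
  have htr := (Representation.isProj_averageMap σ).trace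
  have hav : LinearMap.trace ℂ V σ.averageMap = (Fintype.card H : ℂ)⁻¹ * ∑ h : H, ρ.character h := by
    simp [Representation.averageMap, GroupAlgebra.average, map_sum, Representation.character, hσ]
  rw [hav] at htr
  rw [show (finrank ℂ (fixed ρ H) : ℂ) = finrank ℂ σ.invariants from rfl, ← htr,
    Nat.card_eq_fintype_card, ← mul_assoc,
    mul_inv_cancel₀ (Nat.cast_ne_zero.2 Fintype.card_ne_zero), one_mul]

/-- An irreducible representation with nontrivial character fixes no vector. -/
theorem fixed_top_eq_bot [Finite G] {n : ℕ} (ρ : Representation ℂ G (Fin n → ℂ)) [ρ.IsIrreducible]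
    {χ : Cfsg.IrrCharacter G} (hχ : ρ.character = (χ : G → ℂ)) (hne : χ ≠ Characters.trivIrr G) :
    fixed ρ ⊤ = ⊥ := by
  refine ((Characters.isIrreducible_iff (ρ := ρ)).1 inferInstance).2 _ (fun g v hv => ?_) |>.resolve_right
    fun htop => hne ?_
  · rw [mem_fixed.1 hv g (Subgroup.mem_top g)]
    exact hv
  · haveI := Fintype.ofFinite G
    have hall : ∀ g : G, ρ.character g = (n : ℂ) := fun g => by
      have : ρ g = 1 := LinearMap.ext fun v =>
        mem_fixed.1 (htop ▸ Submodule.mem_top : v ∈ fixed ρ ⊤) g (Subgroup.mem_top g)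
      rw [Representation.character, this, LinearMap.trace_one]
      simp
    have h1 := Characters.classInner_isIrr_self χ.2
    have hn : n = 1 := by
      rw [← hχ, Characters.classInner_def] at h1
      simp only [hall, Finset.sum_const, Finset.card_univ, nsmul_eq_mul, Complex.conj_natCast,
        Nat.card_eq_fintype_card] at h1
      rw [← mul_assoc, inv_mul_cancel₀ (Nat.cast_ne_zero.2 Fintype.card_ne_zero), one_mul] at h1
      have : n * n = 1 := by exact_mod_cast h1
      exact (Nat.eq_one_of_mul_eq_one_left this)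
    refine Subtype.ext (funext fun g => ?_)
    rw [← hχ, hall g, hn]
    simp [Characters.trivIrr]

end Cfsg.Agent.CIT.SEOdd
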