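import Cfsg.Agent.Lib.CIT.SEOdd.Defs
import Cfsg.Agent.Lib.CIT.SEOdd.Fixed
import Cfsg.Agent.Lib.Components.PairCount.Section
import Cfsg.Agent.Lib.Blocks.Orthogonality
import Cfsg.Agent.BlockCharsA.DefectZeroVanish
import Cfsg.Agent.Lib.Characters.Counting
import Cfsg.Agent.S0947

/-!
# Products of two involutions on `K ∖ W`, counted by the principal 2-block

An upper bound for the index of `M`: if every nontrivial irreducible representation has at most
`β |W|` times its degree as `|W| dim V^W - |K| dim V^K`, then `(1 - β) |G| (|K| - |W|) ≤ |M| (|M| - |K|)`.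
-/

set_option autoImplicit false
set_option linter.style.haveILetI false
set_option linter.unusedSectionVars false

namespace Cfsg.Agent.CIT.SEOdd

open Subgroup Cfsg.Agent.Involutions Cfsg.Agent.Characters Cfsg.Agent.Blocks
open scoped Classical ComplexConjugate

universe u

variable {G : Type u} [Group G]

/-- Products of two conjugates of `t` in a set, counted by characters. -/
theorem sum_conjugate_pairs [Fintype G] [Fintype (Cfsg.IrrCharacter G)] (t : G) (T : Finset G) :
    (Nat.card G : ℂ) * ∑ χ : Cfsg.IrrCharacter G,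
        (∑ g ∈ T, conj ((χ : G → ℂ) g)) * (χ : G → ℂ) t * (χ : G → ℂ) t / (χ : G → ℂ) 1 =
      ((Finset.univ.filter fun p : G × G =>
        p.1 * t * p.1⁻¹ * (p.2 * t * p.2⁻¹) ∈ T).card : ℂ) := by
  set F : G → ℂ := fun z => ∑ y : G, if y * z * y⁻¹ ∈ T then 1 else 0 with hF
  have hcl : Cfsg.IsClassFunction G F := fun z x => by
    simp only [hF]
    exact Fintype.sum_equiv (Equiv.mulRight x) _ _ fun y => by
      rw [show y * (x * z * x⁻¹) * y⁻¹ = y * x * z * (y * x)⁻¹ by group]; rfl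
  have hco : ∀ χ : Cfsg.IrrCharacter G,
      Cfsg.classInner F (χ : G → ℂ) = ∑ g ∈ T, conj ((χ : G → ℂ) g) := fun χ => by
    rw [classInner_def, inv_mul_eq_iff_eq_mul₀ natCard_ne_zero]
    simp only [hF, Finset.sum_mul]
    rw [Finset.sum_comm, Nat.card_eq_fintype_card, ← Finset.card_univ, ← nsmul_eq_mul,
      ← Finset.sum_const]
    refine Finset.sum_congr rfl fun y _ => ?_
    rw [show (∑ g ∈ T, conj ((χ : G → ℂ) g)) = ∑ g : G, if g ∈ T then conj ((χ : G → ℂ) g) else 0 by
      rw [← Finset.sum_filter]; exact Finset.sum_congr (by simp) fun _ _ => rfl]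
    refine Fintype.sum_equiv (MulAut.conj y).toEquiv _ _ fun z => ?_
    show _ = if y * z * y⁻¹ ∈ T then conj ((χ : G → ℂ) (y * z * y⁻¹)) else 0
    rw [irr_isClassFunction χ z y, ite_mul, one_mul, zero_mul]
  have hL : ((Finset.univ.filter fun p : G × G =>
      p.1 * t * p.1⁻¹ * (p.2 * t * p.2⁻¹) ∈ T).card : ℂ) = ∑ x : G, F (t * (x * t * x⁻¹)) := by
    rw [← Finset.sum_boole, Fintype.sum_prod_type]
    simp only [hF]
    rw [Finset.sum_comm (f := fun x y => if y * (t * (x * t * x⁻¹)) * y⁻¹ ∈ T then (1 : ℂ) else 0)]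
    refine Finset.sum_congr rfl fun y _ => ?_
    refine (Fintype.sum_equiv (Equiv.mulLeft y) _ _ fun x => ?_).symm
    show _ = if y * t * y⁻¹ * (y * x * t * (y * x)⁻¹) ∈ T then (1 : ℂ) else 0
    rw [show y * (t * (x * t * x⁻¹)) * y⁻¹ = y * t * y⁻¹ * (y * x * t * (y * x)⁻¹) by group]
  rw [hL, Finset.sum_congr rfl fun x _ => congrFun (classFun_eq_sum hcl) _]
  simp only [Finset.sum_apply, Pi.smul_apply, smul_eq_mul, hco]
  rw [Finset.sum_comm, Finset.mul_sum]
  refine Finset.sum_congr rfl fun χ _ => ?_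
  rw [← Finset.mul_sum (s := (Finset.univ : Finset G)), sum_mul_conjugates χ.2]
  ring

variable [Finite G] {M W : Subgroup G}

/-- An involution in `⟨x⟩` for `x ∈ K ∖ W`. -/
theorem Hyp.exists_invol_pow (h : Hyp M W) {x : G} (hx : x ∈ h.K) (hxW : x ∉ W) :
    ∃ j : ℕ, orderOf (x ^ j) = 2 := by
  have he : 2 ∣ orderOf x := by
    rw [← even_iff_two_dvd]
    by_contra ho
    exact hxW (h.odd_mem_W hx (Nat.not_even_iff_odd.1 ho))
  exact ⟨orderOf x / 2, orderOf_pow_orderOf_div (orderOf_pos x).ne' he⟩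

theorem Hyp.centralizer_le_of_notMem (h : Hyp M W) {x : G} (hx : x ∈ h.K) (hxW : x ∉ W) :
    centralizer ({x} : Set G) ≤ M := fun c hc => by
  obtain ⟨j, hj⟩ := h.exists_invol_pow hx hxW
  exact StronglyEmbedded.mem_of_commute h.emb (pow_mem hx.1 j) hj
    ((show Commute c x from mem_centralizer_singleton_iff.1 hc).pow_right j)

/-- The odd normal complement in the centralizer of an element of `K ∖ W`. -/
theorem Hyp.theta_props (h : Hyp M W) {x : G} (hx : x ∈ h.K) (hxW : x ∉ W) :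
    (W.subgroupOf (centralizer ({x} : Set G))).Normal ∧
      ¬ 2 ∣ Nat.card (W.subgroupOf (centralizer ({x} : Set G))) ∧
      ∃ k : ℕ, (W.subgroupOf (centralizer ({x} : Set G))).index = 2 ^ k := by
  have hC := h.centralizer_le_of_notMem hx hxW
  refine ⟨normal_subgroupOf_of_le_normalizer (hC.trans h.le_normalizer), fun hd => ?_, ?_⟩
  · have := h.odd.of_dvd_nat (card_comap_dvd_of_injective W _ (centralizer ({x} : Set G)).subtype_injective)
    exact Nat.not_even_iff_odd.2 this (even_iff_two_dvd.2 hd)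
  refine ⟨_, Nat.eq_prime_pow_of_unique_prime_dvd index_ne_zero_of_finite fun {q} hq hdvd => ?_⟩
  by_contra hq2
  haveI : Fact q.Prime := ⟨hq⟩
  obtain ⟨Q⟩ : Nonempty (Sylow q (centralizer ({x} : Set G))) := inferInstance
  refine Q.not_dvd_index (hdvd.trans (index_dvd_of_le fun y hy => ?_))
  obtain ⟨n, hn⟩ := IsPGroup.iff_orderOf.1 Q.2 ⟨y, hy⟩
  rw [Subgroup.orderOf_mk] at hn
  obtain ⟨j, hj⟩ := h.exists_invol_pow hx hxW
  refine h.cent (y : G) (hC y.2) ?_ _ (pow_mem hx.1 j) hj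
    ((show Commute (y : G) x from mem_centralizer_singleton_iff.1 y.2).pow_right j)
  rw [Subgroup.orderOf_coe, hn]
  exact (hq.odd_of_ne_two hq2).pow

variable [Fintype G]

/-- The elements of `K` outside `W`. -/
noncomputable def Hyp.T (h : Hyp M W) : Finset G := Finset.univ.filter fun g => g ∈ h.K ∧ g ∉ W

theorem Hyp.mem_T (h : Hyp M W) {g : G} : g ∈ h.T ↔ g ∈ h.K ∧ g ∉ W := by simp [Hyp.T]

/-- Outside the principal block the values on `K ∖ W` sum to zero. -/
theorem Hyp.sum_T_eq_zero (h : Hyp M W) {Mi : Ideal Cfsg.AlgInt} (hM : Cfsg.IsPModular 2 Mi)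
    {χ : Cfsg.IrrCharacter G} (hχ : χ ∉ Cfsg.principalBlock Mi G) :
    ∑ g ∈ h.T, (χ : G → ℂ) g = 0 := by
  choose pp hpp using fun g : G => exists_ppart (p := 2) Nat.prime_two g
  rw [← Finset.sum_fiberwise_of_maps_to (g := pp) (t := Finset.univ) fun g _ => Finset.mem_univ _]
  refine Finset.sum_eq_zero fun x _ => ?_
  by_cases he : (h.T.filter fun g => pp g = x) = ∅
  · rw [he, Finset.sum_empty]
  obtain ⟨g, hg⟩ := Finset.nonempty_iff_ne_empty.2 he
  obtain ⟨hgT, rfl⟩ := Finset.mem_filter.1 hg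
  obtain ⟨hgK, hgW⟩ := h.mem_T.1 hgT
  obtain ⟨y, hxy, hc, ⟨k, hk⟩, hy⟩ := hpp g
  set x := pp g with hxdef
  have hyo : Odd (orderOf y) := Nat.not_even_iff_odd.1 fun e => hy (even_iff_two_dvd.1 e)
  have hxg : ∃ n : ℕ, g ^ n = x := by
    obtain ⟨m, hm⟩ := exists_pow_eq_self_of_coprime
      (show Nat.Coprime (orderOf y) (orderOf x) by
        rw [hk]; exact (Nat.coprime_two_right.2 hyo).pow_right k)
    refine ⟨orderOf y * m, ?_⟩
    rw [← hxy, hc.mul_pow, pow_mul, pow_mul y, pow_orderOf_eq_one y, one_pow, mul_one, hm]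
  obtain ⟨n, hn⟩ := hxg
  have hxK : x ∈ h.K := hn ▸ pow_mem hgK n
  have hyW : y ∈ W := h.odd_mem_W (by
    rw [show y = x⁻¹ * g by rw [← hxy, inv_mul_cancel_left]]
    exact mul_mem (inv_mem hxK) hgK) hyo
  have hxW : x ∉ W := fun hxW => hgW (hxy ▸ mul_mem hxW hyW)
  obtain ⟨hθn, hθ, hidx⟩ := h.theta_props hxK hxW
  set θ := W.subgroupOf (centralizer ({x} : Set G)) with hθdef
  haveI := hθn
  have hsv := Components.PairCount.section_value hM ⟨k, hk⟩ hθ hidx χ
  rw [if_neg hχ] at hsv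
  rw [← hsv]
  refine Eq.symm (Finset.sum_bij (fun (c : θ) _ => x * ((c : centralizer ({x} : Set G)) : G))
    (fun c _ => ?_) (fun a _ b _ e => Subtype.ext (Subtype.ext (mul_left_cancel e)))
    (fun g' hg' => ?_) fun _ _ => rfl)
  · have hcW : ((c : centralizer ({x} : Set G)) : G) ∈ W := c.2
    have hcx : Commute x ((c : centralizer ({x} : Set G)) : G) :=
      (show Commute _ x from mem_centralizer_singleton_iff.1 (c : centralizer ({x} : Set G)).2).symm
    refine Finset.mem_filter.2 ⟨h.mem_T.2 ⟨mul_mem hxK (h.le_K hcW), fun e => hxW ?_⟩, ?_⟩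
    · simpa using mul_mem e (inv_mem hcW)
    · exact ppart_unique Nat.prime_two (hpp _) ⟨_, rfl, hcx, ⟨k, hk⟩,
        fun e => Nat.not_even_iff_odd.2 (h.odd_orderOf hcW) (even_iff_two_dvd.2 e)⟩
  · obtain ⟨hg'T, hg'x⟩ := Finset.mem_filter.1 hg'
    obtain ⟨y', hxy', hc', -, hy'⟩ := hpp g'
    rw [hg'x] at hxy' hc'
    have hy'W : y' ∈ W := h.odd_mem_W (by
      rw [show y' = x⁻¹ * g' by rw [← hxy', inv_mul_cancel_left]]
      exact mul_mem (inv_mem hxK) (h.mem_T.1 hg'T).1)
      (Nat.not_even_iff_odd.1 fun e => hy' (even_iff_two_dvd.1 e))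
    exact ⟨⟨⟨y', mem_centralizer_singleton_iff.2 hc'.symm.eq⟩, hy'W⟩, Finset.mem_univ _, hxy'⟩

/-- A central involution of `S` is fixed by `K` modulo `W`. -/
theorem Hyp.comm_mod (h : Hyp M W) {S : Sylow 2 G} (hS : (S : Subgroup G) ≤ h.K) {t : G}
    (ht : t ∈ M) (ht2 : orderOf t = 2) (hc : ∀ s ∈ (S : Subgroup G), t * s = s * t) {k : G}
    (hk : k ∈ h.K) : t * (k * t * k⁻¹) ∈ W := by
  haveI : Fact (Nat.Prime 2) := ⟨Nat.prime_two⟩
  have hinj : Function.Injective (fun p : W × (S : Subgroup G) =>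
      (⟨(p.1 : G) * p.2, mul_mem (h.le_K p.1.2) (hS p.2.2)⟩ : h.K)) := by
    rintro ⟨w, s⟩ ⟨w', s'⟩ e
    have e' : (w : G) * s = w' * s' := congrArg Subtype.val e
    have hd : (w' : G)⁻¹ * w = s' * (s : G)⁻¹ := by
      rw [eq_mul_inv_iff_mul_eq, mul_assoc, e', inv_mul_cancel_left]
    obtain ⟨n, hn⟩ := IsPGroup.iff_orderOf.1 S.2 (s' * s⁻¹)
    rw [← Subgroup.orderOf_coe, Subgroup.coe_mul, Subgroup.coe_inv, ← hd] at hn
    have ho := h.odd_orderOf (mul_mem (inv_mem w'.2) w.2)
    rw [hn] at ho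
    rcases n with _ | n
    · rw [pow_zero, orderOf_eq_one_iff] at hn
      rw [hn, eq_comm, mul_inv_eq_one] at hd
      exact Prod.ext (Subtype.ext (inv_mul_eq_one.1 hn).symm) (Subtype.ext hd.symm)
    · exact absurd ho (by simp [Nat.not_odd_iff_even, Nat.even_pow])
  have hsur := ((Nat.bijective_iff_injective_and_card _).2
    ⟨hinj, by rw [Nat.card_prod, h.card_K hS]⟩).2 ⟨k, hk⟩
  obtain ⟨⟨w, s⟩, hws⟩ := hsur
  have e : (w : G) * s = k := congrArg Subtype.val hws
  have hti := Basic.inv_eq ht2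
  rw [← e, show t * ((w : G) * s * t * ((w : G) * s)⁻¹) = t * w * (s * t * (s : G)⁻¹) * (w : G)⁻¹ by group,
    ← hc s s.2, mul_inv_cancel_right]
  refine mul_mem ?_ (inv_mem w.2)
  have := h.norm t ht w w.2
  rwa [hti] at this

/-- The character bound. -/
theorem Hyp.count (h : Hyp M W) {β : ℝ}
    (hb : ∀ (n : ℕ) (ρ : Representation ℂ G (Fin n → ℂ)), ρ.IsIrreducible → ∀ χ : Cfsg.IrrCharacter G,
      ρ.character = (χ : G → ℂ) → χ ≠ trivIrr G →
        (Nat.card W : ℝ) * Module.finrank ℂ (fixed ρ W) - Nat.card h.K * Module.finrank ℂ (fixed ρ h.K)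
          ≤ β * Nat.card W * n) :
    (1 - β) * Nat.card G * ((Nat.card h.K : ℝ) - Nat.card W) ≤
      (Nat.card M : ℝ) * ((Nat.card M : ℝ) - Nat.card h.K) := by
  haveI : Fact (Nat.Prime 2) := ⟨Nat.prime_two⟩
  haveI := Fintype.ofFinite (Cfsg.IrrCharacter G)
  obtain ⟨S, t, hS, hcen, htM⟩ := h.exists_sylow
  obtain ⟨Mi, hM⟩ := BlockCharsA.DefectZeroVanish.exists_modular Nat.prime_two
  set B := Cfsg.principalBlock Mi G with hB
  set B' := (Finset.univ.filter fun χ : Cfsg.IrrCharacter G => χ ∈ B).erase (trivIrr G) with hB'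
  have htriv : trivIrr G ∈ B := Blocks.trivIrr_mem_principal hM
  have hrep : ∀ χ : Cfsg.IrrCharacter G, ∃ (n : ℕ) (ρ : Representation ℂ G (Fin n → ℂ)),
      ρ.IsIrreducible ∧ ρ.character = (χ : G → ℂ) := fun χ => χ.2
  choose deg ρ hirr hρ using hrep
  set a : Cfsg.IrrCharacter G → ℕ := fun χ => Module.finrank ℂ (fixed (ρ χ) W) with ha
  set d : Cfsg.IrrCharacter G → ℕ := fun χ => Module.finrank ℂ (fixed (ρ χ) h.K) with hd
  have hone : ∀ χ : Cfsg.IrrCharacter G, (χ : G → ℂ) 1 = (deg χ : ℂ) := fun χ => by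
    rw [← hρ, Representation.char_one]; simp
  have hsum : ∀ χ : Cfsg.IrrCharacter G, ∑ g ∈ h.T, (χ : G → ℂ) g =
      (Nat.card h.K : ℂ) * d χ - (Nat.card W : ℂ) * a χ := fun χ => by
    letI := Fintype.ofFinite W
    letI := Fintype.ofFinite h.K
    rw [ha, hd, ← card_mul_finrank_fixed, ← card_mul_finrank_fixed, hρ, eq_sub_iff_add_eq,
      ← Finset.sum_subtype (Finset.univ.filter fun g => g ∈ W) (by simp) (χ : G → ℂ),
      ← Finset.sum_subtype (Finset.univ.filter fun g => g ∈ h.K) (by simp) (χ : G → ℂ),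
      ← Finset.sum_union (by
        rw [Finset.disjoint_left]; intro g hg; simp [(h.mem_T.1 hg).2])]
    refine Finset.sum_congr ?_ fun _ _ => rfl
    ext g
    by_cases hgW : g ∈ W
    · simp [h.mem_T, hgW, h.le_K hgW]
    · simp [h.mem_T, hgW]
  have hint : ∀ χ : Cfsg.IrrCharacter G, ∃ x : ℝ, (χ : G → ℂ) t = (x : ℂ) := fun χ => by
    have hi := Characters.char_inv (irr_isCharacter χ) t
    rw [Basic.inv_eq hcen.order] at hi
    exact ⟨((χ : G → ℂ) t).re, (Complex.conj_eq_iff_re.1 hi.symm).symm⟩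
  choose x hx using hint
  -- the norm at `t`
  have hnorm : ∑ χ ∈ B', x χ ^ 2 = (Nat.card (S : Subgroup G) : ℝ) - 1 := by
    have ht1 : t ≠ 1 := Basic.ne_one hcen.order
    have htK : t ∈ h.K := hS hcen.mem
    have htW : t ∉ W := fun e => h.orderOf_ne_two e hcen.order
    obtain ⟨hθn, hθ, k, hidx⟩ := h.theta_props htK htW
    haveI := hθn
    have hSC : (S : Subgroup G) ≤ centralizer ({t} : Set G) := fun s hs =>
      mem_centralizer_singleton_iff.2 (hcen.comm s hs).symm
    have hcore : ∃ j : ℕ, (Cfsg.pPrimeCore 2 (centralizer ({t} : Set G))).index = 2 ^ j := by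
      have hle : W.subgroupOf (centralizer ({t} : Set G)) ≤ Cfsg.pPrimeCore 2 _ :=
        Cores.le_pPrimeCore ((Nat.prime_two.coprime_iff_not_dvd.2 hθ).symm)
      obtain ⟨j, -, hj⟩ := (Nat.dvd_prime_pow Nat.prime_two).1 (hidx ▸ index_dvd_of_le hle)
      exact ⟨j, hj⟩
    have h1 := (S0947.result 2 Mi hM t ⟨1, by rw [hcen.order, pow_one]⟩ ht1 1
      (by rw [orderOf_one]; decide)).2 hcore
    rw [← (S.subtype hSC).card_eq_multiplicity, Sylow.coe_subtype,
      Nat.card_congr (subgroupOfEquivOfLe hSC).toEquiv, finsum_mem_def,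
      finsum_eq_sum_of_fintype] at h1
    simp only [Set.indicator_apply, OneMemClass.coe_one, mul_one, hx, Complex.norm_real,
      Real.norm_eq_abs, sq_abs] at h1
    rw [← Finset.sum_filter, ← Finset.add_sum_erase _ _ (show trivIrr G ∈ Finset.univ.filter
      (fun χ : Cfsg.IrrCharacter G => χ ∈ Cfsg.principalBlock Mi G) by simpa using htriv)] at h1
    have hx1 : x (trivIrr G) = 1 := by
      have := hx (trivIrr G)
      simp only [trivIrr] at this
      exact_mod_cast this.symm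
    rw [hx1, one_pow] at h1
    rw [← h1, hB', hB]
    ring
  -- the identity
  set N := (Finset.univ.filter fun p : G × G =>
    p.1 * t * p.1⁻¹ * (p.2 * t * p.2⁻¹) ∈ h.T).card with hN
  set F : Cfsg.IrrCharacter G → ℝ := fun χ =>
    ((Nat.card h.K : ℝ) * d χ - (Nat.card W : ℝ) * a χ) * x χ ^ 2 / deg χ with hF
  have hid : (N : ℝ) = (Nat.card G : ℝ) * (F (trivIrr G) + ∑ χ ∈ B', F χ) := by
    have h1 := sum_conjugate_pairs t h.T
    rw [← hN] at h1
    have hterm : ∀ χ : Cfsg.IrrCharacter G,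
        (∑ g ∈ h.T, conj ((χ : G → ℂ) g)) * (χ : G → ℂ) t * (χ : G → ℂ) t / (χ : G → ℂ) 1 =
          ((if χ ∈ B then F χ else 0 : ℝ) : ℂ) := fun χ => by
      rw [← map_sum]
      split_ifs with hχ
      · rw [hsum, hx, hone, hF]
        simp only [map_sub, map_mul, map_natCast]
        push_cast
        ring
      · rw [h.sum_T_eq_zero hM hχ]; simp
    rw [Finset.sum_congr rfl fun χ _ => hterm χ, ← Complex.ofReal_sum, ← Finset.sum_filter,
      ← Finset.add_sum_erase _ _ (show trivIrr G ∈ Finset.univ.filter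
      (fun χ : Cfsg.IrrCharacter G => χ ∈ B) by simpa using htriv), ← hB'] at h1
    exact_mod_cast h1.symm
  -- the trivial character
  have hF1 : F (trivIrr G) = (Nat.card h.K : ℝ) - Nat.card W := by
    have hd1 : deg (trivIrr G) = 1 := by
      have := hone (trivIrr G)
      simp only [trivIrr] at this
      exact_mod_cast this.symm
    have hx1 : x (trivIrr G) = 1 := by
      have := hx (trivIrr G)
      simp only [trivIrr] at this
      exact_mod_cast this.symm
    have hfix : ∀ H : Subgroup G, Module.finrank ℂ (fixed (ρ (trivIrr G)) H) = 1 := fun H => by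
      letI := Fintype.ofFinite H
      have h2 := card_mul_finrank_fixed (ρ (trivIrr G)) H
      rw [hρ] at h2
      simp only [trivIrr, Finset.sum_const, Finset.card_univ, nsmul_eq_mul, mul_one,
        Nat.card_eq_fintype_card] at h2
      exact_mod_cast (mul_eq_left₀ (Nat.cast_ne_zero.2 Fintype.card_ne_zero)).1 h2.symm
    simp only [hF, ha, hd, hfix, hd1, hx1]
    push_cast
    ring
  -- the other characters
  have hlow : ∀ χ ∈ B', -(β * Nat.card W) * x χ ^ 2 ≤ F χ := fun χ hχ => by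
    have hd0 : 0 < deg χ := by
      obtain ⟨m, hm, hm'⟩ := Characters.irr_one_pos χ.2
      rw [hone] at hm'
      have : deg χ = m := by exact_mod_cast hm'
      omega
    have := hb _ (ρ χ) (hirr χ) χ (hρ χ) (Finset.ne_of_mem_erase hχ)
    rw [hF, le_div_iff₀ (by exact_mod_cast hd0 : (0 : ℝ) < deg χ)]
    nlinarith [mul_le_mul_of_nonneg_left this (sq_nonneg (x χ))]
  have hKS : (Nat.card h.K : ℝ) = Nat.card W * Nat.card (S : Subgroup G) := by
    exact_mod_cast h.card_K hS
  -- the count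
  have hNle : (N : ℝ) ≤ (Nat.card M : ℝ) * ((Nat.card M : ℝ) - Nat.card h.K) := by
    have hmem : ∀ p : G × G, p.1 * t * p.1⁻¹ * (p.2 * t * p.2⁻¹) ∈ h.T →
        p.1 ∈ M ∧ p.1⁻¹ * p.2 ∈ M ∧ p.1⁻¹ * p.2 ∉ h.K := by
      rintro ⟨y, z⟩ hp
      obtain ⟨hgK, hgW⟩ := h.mem_T.1 hp
      simp only at hgK hgW ⊢
      set i := y * t * y⁻¹ with hi
      set j := z * t * z⁻¹ with hj
      have hi2 : orderOf i = 2 := by rw [hi, Basic.orderOf_conj, hcen.order]
      have hj2 : orderOf j = 2 := by rw [hj, Basic.orderOf_conj, hcen.order]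
      obtain ⟨n, hn⟩ := h.exists_invol_pow hgK hgW
      have hc : Commute i ((i * j) ^ n) := by
        have h1 : i * (i * j) ^ n * i⁻¹ = (i * j) ^ n := by
          rw [← conj_pow, Basic.conj_prod_left hi2 hj2, inv_pow, Basic.inv_eq hn]
        exact mul_inv_eq_iff_eq_mul.1 h1
      have hiM : i ∈ M := StronglyEmbedded.mem_of_commute h.emb (pow_mem hgK.1 n) hn hc
      have hy : y ∈ M := StronglyEmbedded.mem_of_conj h.emb htM hcen.order hiM
      have hjM : j ∈ M := by
        have := mul_mem (inv_mem hiM) hgK.1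
        rwa [inv_mul_cancel_left] at this
      have hz : z ∈ M := StronglyEmbedded.mem_of_conj h.emb htM hcen.order hjM
      refine ⟨hy, mul_mem (inv_mem hy) hz, fun hk => hgW ?_⟩
      have := h.norm y hy _ (h.comm_mod hS htM hcen.order hcen.comm hk)
      rwa [show y * (t * (y⁻¹ * z * t * (y⁻¹ * z)⁻¹)) * y⁻¹ = i * j by rw [hi, hj]; group] at this
    have hcard : N ≤ Nat.card M * (Nat.card M - Nat.card h.K) := by
      have e1 : ((Finset.univ.filter fun g : G => g ∈ M) \ (Finset.univ.filter fun g : G => g ∈ h.K)).card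
          = Nat.card M - Nat.card h.K := by
        rw [Finset.card_sdiff_of_subset (fun g hg => by simpa using h.K_le (by simpa using hg)),
          Nat.card_eq_fintype_card, Nat.card_eq_fintype_card, Fintype.card_subtype,
          Fintype.card_subtype]
      have e2 : (Finset.univ.filter fun g : G => g ∈ M).card = Nat.card M := by
        rw [Nat.card_eq_fintype_card, Fintype.card_subtype]
      rw [← e1, ← e2, ← Finset.card_product, hN]
      refine Finset.card_le_card_of_injOn (fun p => (p.1, p.1⁻¹ * p.2)) (fun p hp => ?_) ?_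
      · have := hmem p (Finset.mem_filter.1 hp).2
        simpa using this
      · rintro ⟨y, z⟩ - ⟨y', z'⟩ - e
        simp only [Prod.mk.injEq] at e
        obtain ⟨rfl, e⟩ := e
        rw [mul_left_cancel e]
    have hKM : Nat.card h.K ≤ Nat.card M := Subgroup.card_le_of_le h.K_le
    rw [← Nat.cast_sub hKM, ← Nat.cast_mul]
    exact_mod_cast hcard
  refine le_trans ?_ hNle
  rw [hid, hF1, hKS]
  have hsumlow := Finset.sum_le_sum hlow
  rw [← Finset.mul_sum, hnorm] at hsumlow
  have hG : (0 : ℝ) ≤ Nat.card G := Nat.cast_nonneg _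
  nlinarith [mul_le_mul_of_nonneg_left hsumlow hG]

end Cfsg.Agent.CIT.SEOdd
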