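import Cfsg.Prelude.Def_CaseTheorems
import Cfsg.Prelude.Def_Involutions
import Cfsg.Agent.Lib.CIT.Base
import Cfsg.Agent.Lib.Coprime.Generation
import Cfsg.Agent.Lib.Coprime.OddInvariant.PPrimeNilpotent.Local

/-!
# A strongly embedded subgroup which is a 2-group modulo an odd normal subgroup, up to odd index

`Hyp M W`: `M` is strongly embedded, `W` is odd and normal in `M`, contains the odd elements of `M` commuting
with an involution of `M`, and the elements of `M` which are 2-elements modulo `W` form a subgroup `K`.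
-/

set_option autoImplicit false
set_option linter.style.haveILetI false
set_option linter.unusedSectionVars false

namespace Cfsg.Agent.CIT.SEOdd

open Subgroup Cfsg.Agent.Involutions
open Cfsg.Agent.Coprime.OddInvariant.PPrimeNilpotent (Pair)

universe u

variable {G : Type u} [Group G]

/-- A 2-element modulo `W`. -/
def IsTwoMod (W : Subgroup G) (x : G) : Prop := ∃ k : ℕ, x ^ 2 ^ k ∈ W

structure Hyp (M W : Subgroup G) : Prop where
  emb : Cfsg.IsStronglyEmbedded M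
  le : W ≤ M
  norm : ∀ m ∈ M, ∀ w ∈ W, m * w * m⁻¹ ∈ W
  odd : Odd (Nat.card W)
  cent : ∀ x ∈ M, Odd (orderOf x) → ∀ t ∈ M, orderOf t = 2 → Commute x t → x ∈ W
  pair : ∃ x y : G, x ∈ M ∧ y ∈ M ∧ Pair x y
  closed : ∀ x ∈ M, ∀ y ∈ M, IsTwoMod W x → IsTwoMod W y → IsTwoMod W (x * y)

variable {M W : Subgroup G}

/-- The elements of `M` which are 2-elements modulo `W`. -/
def Hyp.K (h : Hyp M W) : Subgroup G where
  carrier := {x | x ∈ M ∧ IsTwoMod W x}
  one_mem' := ⟨one_mem M, 0, by simp⟩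
  mul_mem' hx hy := ⟨mul_mem hx.1 hy.1, h.closed _ hx.1 _ hy.1 hx.2 hy.2⟩
  inv_mem' {x} hx := ⟨inv_mem hx.1, hx.2.imp fun k hk => by rw [inv_pow]; exact inv_mem hk⟩

theorem Hyp.K_le (h : Hyp M W) : h.K ≤ M := fun _ hx => hx.1

theorem Hyp.le_K (h : Hyp M W) : W ≤ h.K := fun x hx => ⟨h.le hx, 0, by simpa using hx⟩

theorem Hyp.conj_mem_K (h : Hyp M W) {m x : G} (hm : m ∈ M) (hx : x ∈ h.K) :
    m * x * m⁻¹ ∈ h.K :=
  ⟨mul_mem (mul_mem hm hx.1) (inv_mem hm), hx.2.imp fun k hk => by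
    rw [conj_pow]; exact h.norm m hm _ hk⟩

theorem Hyp.le_normalizer (h : Hyp M W) : M ≤ normalizer (W : Set G) := fun m hm =>
  mem_normalizer_iff.2 fun w => ⟨fun hw => h.norm m hm w hw, fun hw => by
    have := h.norm m⁻¹ (inv_mem hm) _ hw
    rwa [show m⁻¹ * (m * w * m⁻¹) * m⁻¹⁻¹ = w by group] at this⟩

theorem Hyp.two_mem_K (h : Hyp M W) {x : G} (hx : x ∈ M) {k : ℕ} (hk : orderOf x = 2 ^ k) :
    x ∈ h.K := ⟨hx, k, by rw [← hk, pow_orderOf_eq_one]; exact one_mem W⟩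

theorem Hyp.invol_mem_K (h : Hyp M W) {x : G} (hx : x ∈ M) (h2 : orderOf x = 2) : x ∈ h.K :=
  h.two_mem_K hx (k := 1) (by rw [h2, pow_one])

theorem Hyp.odd_mem_W (h : Hyp M W) {x : G} (hx : x ∈ h.K) (ho : Odd (orderOf x)) : x ∈ W := by
  obtain ⟨-, k, hk⟩ := hx
  obtain ⟨m, hm⟩ := exists_pow_eq_self_of_coprime
    ((Nat.coprime_two_left.2 ho).pow_left k : Nat.Coprime (2 ^ k) (orderOf x))
  exact hm ▸ pow_mem hk m

variable [Finite G]

theorem Hyp.odd_orderOf (h : Hyp M W) {x : G} (hx : x ∈ W) : Odd (orderOf x) :=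
  h.odd.of_dvd_nat (Subgroup.orderOf_dvd_natCard W hx)

theorem Hyp.orderOf_ne_two (h : Hyp M W) {x : G} (hx : x ∈ W) : orderOf x ≠ 2 := fun e => by
  have := h.odd_orderOf hx
  rw [e] at this
  exact absurd this (by decide)

/-- An odd subgroup normalised by two commuting involutions of `M` lies in `W`. -/
theorem Hyp.le_of_pair (h : Hyp M W) {a b : G} (hab : Pair a b) (haM : a ∈ M) (hbM : b ∈ M)
    {O : Subgroup G} (hO : Odd (Nat.card O)) (ha : a ∈ normalizer (O : Set G))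
    (hb : b ∈ normalizer (O : Set G)) : O ≤ W := by
  haveI : Fact (Nat.Prime 2) := ⟨Nat.prime_two⟩
  set A := closure ({a, b} : Set G) with hA
  haveI := hab.closure_props.1
  have hAM : A ≤ M := (closure_le M).2 (by rintro x (rfl | rfl); exacts [haM, hbM])
  have hgen := Cfsg.Agent.Coprime.fixedGen_eq (A := A) (K := O) hab.not_isCyclic
    ((closure_le _).2 (by rintro x (rfl | rfl); exacts [ha, hb])) (by
      obtain ⟨k, hk⟩ := IsPGroup.iff_card.1 hab.isPGroup
      rw [hk]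
      exact (Nat.coprime_two_left.2 hO).pow_left k)
  rw [← hgen]
  refine iSup₂_le fun x ⟨hx, hx1⟩ => fun y hy => ?_
  have hx2 : orderOf x = 2 := orderOf_eq_prime (hab.closure_props.2 _ hx) hx1
  have hc : Commute y x := (mem_centralizer_singleton_iff.1 hy.2)
  exact h.cent y (StronglyEmbedded.mem_of_commute h.emb (hAM hx) hx2 hc)
    (hO.of_dvd_nat (Subgroup.orderOf_dvd_natCard O hy.1)) x (hAM hx) hx2 hc

/-- The facts used of a Sylow 2-subgroup. -/
theorem Hyp.exists_sylow (h : Hyp M W) :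
    ∃ (S : Sylow 2 G) (t : G), (S : Subgroup G) ≤ h.K ∧ CenInv S t ∧ t ∈ M := by
  haveI : Fact (Nat.Prime 2) := ⟨Nat.prime_two⟩
  obtain ⟨t₀, ht₀, h2⟩ := StronglyEmbedded.exists_involution_mem h.emb.2.1
  have hT : IsPGroup 2 (zpowers t₀) :=
    IsPGroup.of_card (n := 1) (by rw [Nat.card_zpowers, h2, pow_one])
  obtain ⟨S, hS⟩ := hT.exists_le_sylow
  have hne : (S : Subgroup G) ≠ ⊥ := fun e => Basic.ne_one h2
    ((mem_bot).1 (e ▸ hS (mem_zpowers t₀) : t₀ ∈ (⊥ : Subgroup G)))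
  obtain ⟨t, ht⟩ := exists_cenInv S hne
  have htM : t ∈ M := StronglyEmbedded.mem_of_commute h.emb ht₀ h2
    (ht.comm _ (hS (mem_zpowers t₀)))
  refine ⟨S, t, fun s hs => ?_, ht, htM⟩
  obtain ⟨k, hk⟩ := IsPGroup.iff_orderOf.1 S.2 ⟨s, hs⟩
  exact h.two_mem_K (StronglyEmbedded.mem_of_commute h.emb htM ht.order (ht.comm s hs).symm)
    (by rwa [Subgroup.orderOf_mk] at hk)

theorem Hyp.card_K (h : Hyp M W) {S : Sylow 2 G} (hS : (S : Subgroup G) ≤ h.K) :
    Nat.card h.K = Nat.card W * Nat.card (S : Subgroup G) := by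
  haveI : Fact (Nat.Prime 2) := ⟨Nat.prime_two⟩
  obtain ⟨k, hk⟩ := IsPGroup.iff_card.1 S.2
  refine Nat.dvd_antisymm ?_ ((show Nat.Coprime (Nat.card W) (Nat.card (S : Subgroup G)) by
    rw [hk]; exact (Nat.coprime_two_right.2 h.odd).pow_right k).mul_dvd_of_dvd_of_dvd
    (Subgroup.card_dvd_of_le h.le_K) (Subgroup.card_dvd_of_le hS))
  rw [Nat.dvd_iff_prime_pow_dvd_dvd]
  intro p n hp hdvd
  haveI : Fact p.Prime := ⟨hp⟩
  obtain ⟨P, hP⟩ := Sylow.exists_subgroup_card_pow_prime p hdvd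
  set P' := P.map h.K.subtype
  have hP' : Nat.card P' = p ^ n := by rw [Subgroup.card_subtype, hP]
  rcases eq_or_ne p 2 with rfl | hp2
  · refine dvd_mul_of_dvd_right ?_ _
    obtain ⟨T, hT⟩ := (IsPGroup.of_card (p := 2) (n := n) hP').exists_le_sylow
    have hTS : Nat.card (T : Subgroup G) = Nat.card (S : Subgroup G) := by
      rw [T.card_eq_multiplicity, S.card_eq_multiplicity]
    exact hP' ▸ hTS ▸ Subgroup.card_dvd_of_le hT
  · refine dvd_mul_of_dvd_left (hP' ▸ Subgroup.card_dvd_of_le ?_) _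
    intro x hx
    have hxK : x ∈ h.K := by
      obtain ⟨y, -, rfl⟩ := hx
      exact y.2
    refine h.odd_mem_W hxK (Odd.of_dvd_nat ?_ (Subgroup.orderOf_dvd_natCard P' hx))
    rw [hP']
    exact (hp.odd_of_ne_two hp2).pow

/-- Restriction to a subgroup not inside `M`. -/
theorem Hyp.subgroupOf (h : Hyp M W) {L : Subgroup G} (hL : ¬ L ≤ M) {a b : G} (hab : Pair a b)
    (haM : a ∈ M) (hbM : b ∈ M) (ha : a ∈ L) (hb : b ∈ L) :
    Hyp (M.subgroupOf L) (W.subgroupOf L) := by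
  have hne : M.subgroupOf L ≠ ⊤ := fun e => hL (subgroupOf_eq_top.1 e)
  have heven : Even (Nat.card (M.subgroupOf L)) := by
    have := Subgroup.orderOf_dvd_natCard (M.subgroupOf L) (x := ⟨a, ha⟩) haM
    rw [Subgroup.orderOf_mk, hab.1] at this
    exact even_iff_two_dvd.2 this
  refine ⟨StronglyEmbedded.of_conj hne heven fun t ht ht2 g hg => ?_, fun x hx => h.le hx,
    fun m hm w hw => h.norm m hm w hw, ?_, ?_, ?_, ?_⟩
  · exact StronglyEmbedded.mem_of_conj (t := (t : G)) h.emb ht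
      (by rw [Subgroup.orderOf_coe]; exact ht2) hg
  · refine h.odd.of_dvd_nat (card_comap_dvd_of_injective _ _ ?_)
    exact L.subtype_injective
  · intro x hx hxo t ht ht2 hc
    exact h.cent _ hx ((orderOf_injective L.subtype L.subtype_injective x).symm ▸ hxo) _ ht
      ((orderOf_injective L.subtype L.subtype_injective t).trans ht2)
      (congrArg Subtype.val hc)
  · exact ⟨⟨a, ha⟩, ⟨b, hb⟩, haM, hbM, by rw [Subgroup.orderOf_mk]; exact hab.1,
      by rw [Subgroup.orderOf_mk]; exact hab.2.1, Subtype.ext hab.2.2.1,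
      fun e => hab.2.2.2 (congrArg Subtype.val e)⟩
  · intro x hx y hy hx2 hy2
    exact h.closed _ hx _ hy hx2 hy2

end Cfsg.Agent.CIT.SEOdd
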