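import Cfsg.Agent.Lib.CIT.SEOdd.Small
import Cfsg.Agent.Lib.Involutions.RankOne.Char.TwoGroup
import Cfsg.Agent.Lib.Involutions.RankOne.ConsS1222

/-!
# The small case is impossible

If the stabilisers in `W` are trivial, `K` is regular and the rank-one theory makes it a 2-group.  Otherwise
the normalizer of such a stabiliser `R` acts on its fixed cosets with a swapper at every pair, and a count
of involutions or a four group gives a contradiction.
-/

set_option autoImplicit false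
set_option linter.style.haveILetI false
set_option linter.unusedSectionVars false

namespace Cfsg.Agent.CIT.SEOdd

open Subgroup Cfsg.Agent.Involutions MulAction
open Cfsg.Agent.Coprime.OddInvariant.PPrimeNilpotent (Pair)

universe u

variable {G : Type u} [Group G] [Finite G] {M W : Subgroup G}

/-- The size of an invariant set of cosets is odd exactly when the fixed coset of the involution lies in it. -/
theorem odd_ncard_iff {Y : Type*} [Finite Y] [MulAction G Y] {i : G} (hi : i * i = 1) {c : Y}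
    (hc : i • c = c) (huniq : ∀ p : Y, i • p = p → p = c) {P : Set Y} (hP : ∀ p ∈ P, i • p ∈ P) :
    Odd P.ncard ↔ c ∈ P := by
  classical
  haveI : Fact (Nat.Prime 2) := ⟨Nat.prime_two⟩
  haveI := Fintype.ofFinite Y
  let f : Function.End P := fun p => ⟨i • (p : Y), hP _ p.2⟩
  have hf : f ^ 2 ^ 1 = 1 := by
    funext p
    apply Subtype.ext
    show i • (i • (p : Y)) = p
    rw [smul_smul, hi, one_smul]
  have h := Equiv.Perm.card_fixedPoints_modEq hf
  rw [← Nat.card_eq_fintype_card, ← Nat.card_eq_fintype_card, Nat.card_coe_set_eq] at h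
  by_cases hcP : c ∈ P
  · have e : Nat.card (Function.fixedPoints f) = 1 := Nat.card_eq_one_iff_unique.2
      ⟨⟨fun p q => Subtype.ext (Subtype.ext ((huniq _ (congrArg Subtype.val p.2)).trans
        (huniq _ (congrArg Subtype.val q.2)).symm))⟩, ⟨⟨⟨c, hcP⟩, Subtype.ext hc⟩⟩⟩
    rw [e] at h
    exact ⟨fun _ => hcP, fun _ => Nat.odd_iff.2 h⟩
  · haveI : IsEmpty (Function.fixedPoints f) :=
      ⟨fun p => hcP (huniq _ (congrArg Subtype.val p.2) ▸ (p : P).2)⟩
    rw [Nat.card_of_isEmpty] at h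
    refine ⟨fun ho => absurd (Nat.odd_iff.1 ho) ?_, fun e => absurd e hcP⟩
    unfold Nat.ModEq at h
    omega

theorem exists_pow_sq_eq {x : G} (hx : Odd (orderOf x)) : ∃ m : ℕ, (x ^ 2) ^ m = x :=
  exists_pow_eq_self_of_coprime (Nat.coprime_two_left.2 hx)

theorem pow_smul_eq {Y : Type*} [MulAction G Y] {x : G} {p : Y} (hp : x • p = p) (m : ℕ) :
    x ^ m • p = p := by
  induction m with
  | zero => simp
  | succ m ih => rw [pow_succ, mul_smul, hp, ih]

theorem Hyp.small_false (h : Hyp M W) {S : Sylow 2 G} (hs : Small h S) (hW : W ≠ ⊥) : False := by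
  classical
  haveI := Fintype.ofFinite G
  haveI : Fact (Nat.Prime 2) := ⟨Nat.prime_two⟩
  set o : G ⧸ M := ((1 : G) : G ⧸ M) with ho
  obtain ⟨g₀, hg₀⟩ : ∃ g, g ∉ M := by
    by_contra hcon; push Not at hcon
    exact h.emb.1 (eq_top_iff.2 fun x _ => hcon x)
  set b : G ⧸ M := (g₀ : G ⧸ M) with hbdef
  have hb : b ≠ o := fun e => hg₀ (by
    rw [hbdef, ho, QuotientGroup.eq, mul_one, inv_mem_iff] at e; exact e)
  have hcoset : ∀ g : G, g • o = (g : G ⧸ M) := fun g => by
    rw [ho]; show ((g * 1 : G) : G ⧸ M) = _; rw [mul_one]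
  have hallfix : ∀ x : G, (∀ p : G ⧸ M, x • p = p) → x = 1 := fun x hx => by
    rw [← Subgroup.mem_bot, ← hs.core]
    intro g
    have := Cfsg.Agent.SECore.smul_mk_eq_iff.1 (hx ((g⁻¹ : G) : G ⧸ M))
    rwa [inv_inv] at this
  set R := stabW W b with hR
  by_cases hR1 : R = ⊥
  · -- `K` is regular
    have h3 : Nat.card W = 3 := by
      have := hs.index_three b hb
      rw [← hR, hR1, Subgroup.card_bot, mul_one] at this
      exact this.symm
    have hKn : (h.K.subgroupOf M).Normal :=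
      ⟨fun x hx m => h.conj_mem_K m.2 hx⟩
    have htrans : ∀ g₁ g₂ : G, g₁ ∉ M → g₂ ∉ M → ∃ u ∈ h.K, g₂⁻¹ * (u * g₁) ∈ M := by
      intro g₁ g₂ h1 h2
      obtain ⟨k, hk⟩ := hs.trans (g₁ : G ⧸ M) (g₂ : G ⧸ M)
        (fun e => h1 (by rw [QuotientGroup.eq, mul_one, inv_mem_iff] at e; exact e))
        (fun e => h2 (by rw [QuotientGroup.eq, mul_one, inv_mem_iff] at e; exact e))
      exact ⟨k, k.2, QuotientGroup.eq.1 (show ((g₂ : G) : G ⧸ M) = (((k : G) * g₁ : G) : G ⧸ M) from hk.symm)⟩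
    have hreg : ∀ g : G, g ∉ M → ∀ u ∈ h.K, g⁻¹ * (u * g) ∈ M → u = 1 := by
      intro g hg u hu hmem
      have hne : (g : G ⧸ M) ≠ o := fun e => hg (by
        rw [ho, QuotientGroup.eq, mul_one, inv_mem_iff] at e; exact e)
      have hfix : u • (g : G ⧸ M) = (g : G ⧸ M) :=
        Cfsg.Agent.SECore.smul_mk_eq_iff.2 (by rwa [mul_assoc])
      have huW : u ∈ W := by
        by_contra hn
        exact hne (h.eq_one_of_fix hu hn hfix)
      have := hs.index_three _ hne
      rw [h3] at this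
      have h1 : stabW W (g : G ⧸ M) = ⊥ := Subgroup.card_eq_one.1 (by omega)
      exact mem_bot.1 (h1 ▸ Subgroup.mem_inf.2 ⟨huW, mem_stabilizer_iff.2 hfix⟩)
    obtain ⟨t, hset⟩ := RankOne.Cons.exists_setup h.emb h.K_le hKn htrans hreg
    haveI : FaithfulSMul G (G ⧸ M) := ⟨fun {g₁ g₂} e => by
      refine inv_mul_eq_one.1 (hallfix _ fun p => ?_)
      rw [mul_smul, ← e p, inv_smul_smul]⟩
    obtain ⟨x, y, -, -, hxy⟩ := h.pair
    have h2 := Involutions.RankOne.Char.isPGroup_two hset ⟨x, y, Basic.ne_one hxy.1,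
      Basic.ne_one hxy.2.1, hxy.2.2.2, Basic.inv_sq_one hxy.1, Basic.inv_sq_one hxy.2.1, hxy.2.2.1⟩
    obtain ⟨k, hk⟩ := IsPGroup.iff_card.1 (h2.to_le h.le_K)
    rw [h3] at hk
    rcases k with _ | k
    · norm_num at hk
    · have : Even 3 := hk ▸ by simp [Nat.even_pow]
      exact absurd this (by decide)
  -- the normalizer of `R`
  set L := normalizer (R : Set G) with hL
  set Φ : Set (G ⧸ M) := {p | R ≤ stabilizer G p} with hΦ
  have hbΦ : b ∈ Φ := (inf_le_right : R ≤ stabilizer G b)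
  have hoΦ : o ∈ Φ := fun x hx => mem_stabilizer_iff.2 (smul_one_iff.2 (h.le hx.1))
  have hRcard : ∀ c, c ≠ o → Nat.card (stabW W c) = Nat.card R := fun c hc => by
    have h1 := hs.index_three c hc
    have h2 := hs.index_three b hb
    rw [← hR] at h2
    omega
  have hReq : ∀ c, c ≠ o → c ∈ Φ → stabW W c = R := fun c hc hcΦ =>
    (Subgroup.eq_of_le_of_card_ge (le_inf inf_le_left hcΦ) (hRcard c hc).le).symm
  have hmemL : ∀ g : G, (∀ x ∈ R, g * x * g⁻¹ ∈ R) → g ∈ L := fun g hg => mem_normalizer_fintype hg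
  have hLΦ : ∀ g ∈ L, ∀ p ∈ Φ, g • p ∈ Φ := fun g hg p hp x hx => by
    have hx' : g⁻¹ * x * g ∈ R := by
      have := (mem_normalizer_iff.1 (inv_mem hg) x).1 hx
      rwa [inv_inv] at this
    rw [mem_stabilizer_iff, smul_smul, show x * g = g * (g⁻¹ * x * g) by group, mul_smul,
      mem_stabilizer_iff.1 (hp hx')]
  -- swappers normalise `R`
  have hswap : ∀ c, c ≠ o → c ∈ Φ → ∀ u : G, orderOf u = 2 → u • o = c → u ∈ L := by
    intro c hc hcΦ u hu huo
    have huc : u • c = o := by rw [← huo, smul_smul, Basic.inv_sq_one hu, one_smul]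
    refine hmemL u fun x hx => ?_
    have hxc : x ∈ stabW W c := (hReq c hc hcΦ).symm ▸ hx
    have hxo : x • o = o := smul_one_iff.2 (h.le hxc.1)
    rw [← hReq c hc hcΦ, Basic.inv_eq hu]
    have hy : u * x * u ∈ M := smul_one_iff.1 (by
      rw [mul_smul, mul_smul, huo, mem_stabilizer_iff.1 hxc.2, huc])
    refine Subgroup.mem_inf.2 ⟨h.mem_of_conj (g := u) hy ?_, mem_stabilizer_iff.2 ?_⟩
    · rw [Basic.inv_eq hu, show u * (u * x * u) * u = (u * u) * x * (u * u) by group,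
        Basic.inv_sq_one hu, one_mul, mul_one]
      exact hxc.1
    · rw [mul_smul, mul_smul, huc, hxo, huo]
  -- `W` normalises `R`
  set O : Set (G ⧸ M) := orbit W b with hO
  have hO3 : O.ncard = 3 := by
    have h1 := (stabilizer W b).card_mul_index
    rw [index_stabilizer] at h1
    have e : Nat.card (stabilizer W b) = Nat.card R := Nat.card_congr
      { toFun := fun x => ⟨((x : W) : G), Subgroup.mem_inf.2 ⟨(x : W).2, mem_stabilizer_iff.2 x.2⟩⟩
        invFun := fun x => ⟨⟨x, x.2.1⟩, x.2.2⟩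
        left_inv := fun x => rfl
        right_inv := fun x => rfl }
    have h2 := hs.index_three b hb
    rw [← hR, ← h1, e, mul_comm 3] at h2
    exact (Nat.eq_of_mul_eq_mul_left Nat.card_pos h2).symm
  have hthree : ∀ {p q r s : G ⧸ M}, p ∈ O → q ∈ O → r ∈ O → s ∈ O → p ≠ q → p ≠ r → q ≠ r →
      s = p ∨ s = q ∨ s = r := by
    intro p q r s hp hq hr hs' h1 h2 h3
    have hsub : ({p, q, r} : Set (G ⧸ M)) ⊆ O := by
      rintro x (rfl | rfl | rfl); exacts [hp, hq, hr]
    have heq := Set.eq_of_subset_of_ncard_le hsub (by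
      rw [hO3, Set.ncard_insert_of_notMem (by simp [h1, h2]), Set.ncard_pair h3]) (Set.toFinite _)
    rw [← heq] at hs'
    simpa using hs'
  have hbO : b ∈ O := mem_orbit_self b
  have hWO : ∀ w ∈ W, ∀ p ∈ O, w • p ∈ O := fun w hw p hp =>
    (mem_orbit_of_mem_orbit (⟨w, hw⟩ : W) hp : _)
  have hOne : ∀ p ∈ O, p ≠ o := by
    rintro _ ⟨w, rfl⟩ e
    apply hb
    rw [show b = (w : G)⁻¹ • ((w : G) • b) by rw [inv_smul_smul]]
    rw [show (w : G) • b = o from e]
    exact smul_one_iff.2 (inv_mem (h.le w.2))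
  have hOΦ : O ⊆ Φ := fun p hp x hx => by
    rw [mem_stabilizer_iff]
    by_contra hne
    have hxb : x • b = b := mem_stabilizer_iff.1 hx.2
    have hp1 := hWO x hx.1 p hp
    have hp2 := hWO x hx.1 _ hp1
    have hpb : p ≠ b := fun e => hne (by rw [e, hxb])
    have hxpb : x • p ≠ b := fun e => hpb (MulAction.injective x (e.trans hxb.symm))
    rcases hthree hbO hp hp1 hp2 hpb.symm hxpb.symm (Ne.symm hne) with e | e | e
    · exact hxpb (MulAction.injective x (e.trans hxb.symm))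
    · obtain ⟨m, hm⟩ := exists_pow_sq_eq (h.odd_orderOf hx.1)
      exact hne (by rw [← hm]; exact pow_smul_eq (by rw [pow_two, mul_smul]; exact e) m)
    · exact hne (MulAction.injective x e)
  have hconjR : ∀ g ∈ M, g • b ≠ o → g • b ∈ Φ → g ∈ L := fun g hg hne hΦ' => hmemL g fun x hx => by
    rw [← hReq _ hne hΦ']
    refine Subgroup.mem_inf.2 ⟨h.norm g hg x hx.1, mem_stabilizer_iff.2 ?_⟩
    rw [mul_smul, mul_smul, inv_smul_smul, mem_stabilizer_iff.1 hx.2]
  have hWL : W ≤ L := fun w hw => hconjR w (h.le hw) (hOne _ (hWO w hw b hbO))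
    (hOΦ (hWO w hw b hbO))
  have hKeq : W ⊔ (S : Subgroup G) = h.K := by
    refine Subgroup.eq_of_le_of_card_ge (sup_le h.le_K hs.le_K) ?_
    rw [h.card_K hs.le_K]
    obtain ⟨k, hk⟩ := IsPGroup.iff_card.1 S.2
    exact Nat.le_of_dvd Nat.card_pos ((show Nat.Coprime (Nat.card W) (Nat.card (S : Subgroup G)) by
      rw [hk]; exact (Nat.coprime_two_right.2 h.odd).pow_right k).mul_dvd_of_dvd_of_dvd
      (Subgroup.card_dvd_of_le le_sup_left) (Subgroup.card_dvd_of_le le_sup_right))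
  have hex : ∀ c, c ≠ o → ∃ u : G, orderOf u = 2 ∧ u • o = c := fun c hc => by
    have hcs := StronglyEmbedded.card_swap h.emb o c hc.symm
    obtain ⟨t, htM, ht⟩ := StronglyEmbedded.exists_involution_mem h.emb.2.1
    haveI : Nonempty {t : G // orderOf t = 2 ∧ t ∈ M} := ⟨⟨t, ht, htM⟩⟩
    haveI : Nonempty {i : G // orderOf i = 2 ∧ i • o = c} :=
      Finite.card_pos_iff.1 (hcs ▸ Nat.card_pos)
    obtain ⟨⟨u, hu⟩⟩ := (inferInstance : Nonempty {i : G // orderOf i = 2 ∧ i • o = c})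
    exact ⟨u, hu⟩
  by_cases hcase : ∃ i ∈ M, orderOf i = 2 ∧ i ∈ L
  · -- a count of involutions
    obtain ⟨i₀, hi₀M, hi₀, hi₀L⟩ := hcase
    have hfixuniq : ∀ {i : G}, orderOf i = 2 → ∀ {c : G ⧸ M}, i • c = c → ∀ p : G ⧸ M, i • p = p → p = c :=
      fun {i} hi {c} hc p hp => (StronglyEmbedded.existsUnique_fixed h.emb hi).unique hp hc
    have hodd : Odd Φ.ncard := (odd_ncard_iff (Basic.inv_sq_one hi₀) (smul_one_iff.2 hi₀M)
      (hfixuniq hi₀ (smul_one_iff.2 hi₀M)) (hLΦ i₀ hi₀L)).2 hoΦ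
    let Φ' := {p : G ⧸ M // p ∈ Φ ∧ p ≠ o}
    let A : G ⧸ M → Type u := fun d => {i : G // orderOf i = 2 ∧ i ∈ L ∧ i • d = d}
    let Sw : Φ' → Type u := fun c => {i : G // orderOf i = 2 ∧ i • o = (c : G ⧸ M)}
    have hinj : Nat.card (Σ c : Φ', Sw c) ≤ Nat.card (Σ d : Φ', A d) := by
      have hd : ∀ p : Σ c : Φ', Sw c, ∃ d : Φ', p.2.1 • (d : G ⧸ M) = d := by
        rintro ⟨⟨c, hcΦ, hc⟩, i, hi, hio⟩
        obtain ⟨d, hd, -⟩ := StronglyEmbedded.existsUnique_fixed h.emb hi
        refine ⟨⟨d, (odd_ncard_iff (Basic.inv_sq_one hi) hd (hfixuniq hi hd)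
          (hLΦ i (hswap c hc hcΦ i hi hio))).1 hodd, fun e => ?_⟩, hd⟩
        rw [e] at hd
        exact hc (hio.symm.trans hd)
      choose d hd using hd
      refine Nat.card_le_card_of_injective
        (fun p => ⟨d p, ⟨p.2.1, p.2.2.1, hswap _ p.1.2.2 p.1.2.1 _ p.2.2.1 p.2.2.2, hd p⟩⟩) ?_
      rintro ⟨⟨c, hc⟩, i, hi⟩ ⟨⟨c', hc'⟩, i', hi'⟩ e
      have e1 : i = i' := congrArg (fun q : Σ d : Φ', A d => q.2.1) e
      subst e1
      have e2 : c = c' := hi.2.symm.trans hi'.2
      subst e2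
      rfl
    have hA : ∀ d : Φ', Nat.card (A d) = Nat.card (A o) := by
      rintro ⟨d, hdΦ, hd⟩
      obtain ⟨u, hu, huo⟩ := hex d hd
      have huL := hswap d hd hdΦ u hu huo
      refine (Nat.card_congr (Equiv.subtypeEquiv (MulAut.conj u).toEquiv fun i => ?_)).symm
      show _ ↔ orderOf (u * i * u⁻¹) = 2 ∧ u * i * u⁻¹ ∈ L ∧ (u * i * u⁻¹) • d = d
      rw [Basic.orderOf_conj, ← mem_normalizer_iff.1 (L.le_normalizer huL) i, ← huo, smul_smul,
        inv_mul_cancel_right, mul_smul, smul_left_cancel_iff]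
    have hSw : ∀ c : Φ', Nat.card (Sw c) = Nat.card {t : G // orderOf t = 2 ∧ t ∈ M} :=
      fun c => StronglyEmbedded.card_swap h.emb o c c.2.2.symm
    haveI := Fintype.ofFinite Φ'
    rw [Nat.card_sigma, Nat.card_sigma, Finset.sum_congr rfl fun c _ => hSw c,
      Finset.sum_congr rfl fun d _ => hA d, Finset.sum_const, Finset.sum_const, smul_eq_mul,
      smul_eq_mul] at hinj
    have hle := Nat.le_of_mul_le_mul_left hinj (Fintype.card_pos_iff.2 ⟨⟨b, hbΦ, hb⟩⟩)
    let f : A o → {t : G // orderOf t = 2 ∧ t ∈ M} :=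
      fun i => ⟨i.1, i.2.1, smul_one_iff.1 i.2.2.2⟩
    have hf : Function.Injective f := fun i j e => Subtype.ext (congrArg (fun z : {t : G // orderOf t = 2 ∧ t ∈ M} => z.1) e)
    have hbij := (Nat.bijective_iff_injective_and_card f).2
      ⟨hf, le_antisymm (Nat.card_le_card_of_injective f hf) hle⟩
    have hSL : (S : Subgroup G) ≤ L := fun s hsS => by
      by_cases hs1 : s = 1
      · rw [hs1]; exact one_mem L
      obtain ⟨i, hi⟩ := hbij.2 ⟨s, hs.invol s hsS hs1, (hs.le_K hsS).1⟩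
      have e : i.1 = s := congrArg (fun z : {t : G // orderOf t = 2 ∧ t ∈ M} => z.1) hi
      exact e ▸ i.2.2.1
    have hKL : h.K ≤ L := hKeq ▸ sup_le hWL hSL
    refine hR1 (eq_bot_iff.2 fun x hx => mem_bot.2 (hallfix x fun p => ?_))
    by_cases hp : p = o
    · exact hp ▸ mem_stabilizer_iff.1 (hoΦ hx)
    · obtain ⟨k, rfl⟩ := hs.trans b p hb hp
      exact mem_stabilizer_iff.1 (hLΦ k (hKL k.2) b hbΦ hx)
  -- four cosets
  push Not at hcase
  have hΦO : ∀ c ∈ Φ, c ≠ o → c ∈ O := by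
    intro c hcΦ hc
    obtain ⟨⟨k, hk⟩, rfl⟩ := hs.trans b c hb hc
    rw [← hKeq, Cfsg.Agent.Coprime.mem_sup_of_le_normalizer
      (fun s hs' => h.le_normalizer (hs.le_K hs').1)] at hk
    obtain ⟨w, hw, s, hsS, rfl⟩ := hk
    have hsM : s ∈ M := (hs.le_K hsS).1
    have hsb : s • b ∈ Φ := by
      have := hLΦ w⁻¹ (inv_mem (hWL hw)) _ hcΦ
      rwa [show w⁻¹ • ((⟨w * s, _⟩ : h.K) • b) = s • b from by
        show w⁻¹ • (w * s) • b = s • b
        rw [smul_smul, inv_mul_cancel_left]] at this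
    have hsb' : s • b ≠ o := fun e => hb (by
      rw [show b = s⁻¹ • (s • b) by rw [inv_smul_smul], e]
      exact smul_one_iff.2 (inv_mem hsM))
    have hs1 : s = 1 := by
      by_contra hs1
      exact hcase s hsM (hs.invol s hsS hs1) (hconjR s hsM hsb' hsb)
    subst hs1
    exact ⟨⟨w, hw⟩, by show w • b = (w * 1) • b; rw [mul_one]⟩
  have hΦeq : Φ = insert o O := by
    refine Set.Subset.antisymm (fun c hc => ?_) (Set.insert_subset hoΦ hOΦ)
    by_cases e : c = o
    · exact Or.inl e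
    · exact Or.inr (hΦO c hc e)
  have heven : ¬ Odd Φ.ncard := by
    rw [hΦeq, Set.ncard_insert_of_notMem (fun e => hOne o e rfl), hO3]
    decide
  obtain ⟨u, hu, huo⟩ := hex b hb
  have huL := hswap b hb hbΦ u hu huo
  have hu2 := Basic.inv_sq_one hu
  obtain ⟨c, hc, hcu⟩ := StronglyEmbedded.existsUnique_fixed h.emb hu
  have hcΦ : c ∉ Φ := fun e =>
    heven ((odd_ncard_iff hu2 hc (fun p hp => hcu p hp) (hLΦ u huL)).2 e)
  have hub : u • b = o := by rw [← huo, smul_smul, hu2, one_smul]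
  obtain ⟨w, hw, hwb⟩ : ∃ w ∈ W, w • b ≠ b := by
    by_contra hcon; push Not at hcon
    have h2 := hs.index_three b hb
    have e : stabW W b = W := inf_eq_left.2 fun x hx => mem_stabilizer_iff.2 (hcon x hx)
    rw [e] at h2
    have : 0 < Nat.card W := Nat.card_pos
    omega
  set p := w • b with hp
  set q := w • p with hq
  have hpO : p ∈ O := hWO w hw b hbO
  have hqO : q ∈ O := hWO w hw p hpO
  have hqp : q ≠ p := fun e => hwb (MulAction.injective w (e.trans hp))
  have hqb : q ≠ b := fun e => by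
    obtain ⟨m, hm⟩ := exists_pow_sq_eq (h.odd_orderOf hw)
    exact hwb (hp ▸ (hm ▸ pow_smul_eq (x := w ^ 2) (by rw [pow_two, mul_smul]; exact e) m : w • b = b))
  have hwq : w • q = b := by
    rcases hthree hbO hpO hqO (hWO w hw q hqO) (Ne.symm hwb) hqb.symm hqp.symm with e | e | e
    · exact e
    · exact absurd (MulAction.injective w (e.trans hp)) hqb
    · exact absurd (MulAction.injective w (e.trans hq)) hqp
  have hup : u • p = q := by
    have h1 : u • p ∈ Φ := hLΦ u huL p (hOΦ hpO)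
    have h2 : u • p ≠ o := fun e => hwb (by
      rw [hp] at e
      exact (MulAction.injective u (e.trans hub.symm) : _))
    rcases hthree hbO hpO hqO (hΦO _ h1 h2) (Ne.symm hwb) hqb.symm hqp.symm with e | e | e
    · exact absurd (MulAction.injective u (e.trans huo.symm)) (hOne p hpO)
    · exact absurd (hcu p e ▸ hOΦ hpO) hcΦ
    · exact e
  have huq : u • q = p := by rw [← hup, smul_smul, hu2, one_smul]
  set v := w * u * w⁻¹ with hv
  have hvL : v ∈ L := mul_mem (mul_mem (hWL hw) huL) (inv_mem (hWL hw))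
  have hwo : w • o = o := smul_one_iff.2 (h.le hw)
  have hwi : ∀ {y z : G ⧸ M}, w • y = z → w⁻¹ • z = y := fun e => by rw [← e, inv_smul_smul]
  have hvo : v • o = p := by rw [hv, mul_smul, mul_smul, hwi hwo, huo]
  have hvp : v • p = o := by rw [hv, mul_smul, mul_smul, hwi hp.symm, hub, hwo]
  have hvb : v • b = q := by rw [hv, mul_smul, mul_smul, hwi hwq, huq, hq]
  have hvq : v • q = b := by rw [hv, mul_smul, mul_smul, hwi hq.symm, hup, hwq]
  set g := u * v with hg
  have hgo : g • o = q := by rw [hg, mul_smul, hvo, hup]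
  have hgq : g • q = o := by rw [hg, mul_smul, hvq, hub]
  have hgb : g • b = p := by rw [hg, mul_smul, hvb, huq]
  have hgp : g • p = b := by rw [hg, mul_smul, hvp, huo]
  have hg2o : g ^ 2 • o = o := by rw [pow_two, mul_smul, hgo, hgq]
  have hg2b : g ^ 2 • b = b := by rw [pow_two, mul_smul, hgb, hgp]
  have hg2odd : Odd (orderOf (g ^ 2)) := Nat.not_even_iff_odd.1 fun he => by
    have hi := orderOf_pow_orderOf_div (orderOf_pos (g ^ 2)).ne' (even_iff_two_dvd.1 he)
    exact hb ((StronglyEmbedded.existsUnique_fixed h.emb hi).unique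
      (pow_smul_eq hg2b _) (pow_smul_eq hg2o _))
  have hgeven : Even (orderOf g) := Nat.not_odd_iff_even.1 fun hodd => by
    obtain ⟨m, hm⟩ := exists_pow_sq_eq hodd
    refine hOne q hqO ?_
    rw [← hgo, ← hm]
    exact pow_smul_eq hg2o m
  have hv2 : orderOf v = 2 := by rw [hv, Basic.orderOf_conj, hu]
  obtain ⟨hz2, hzu, -⟩ := Basic.middle_involution hu hv2 hgeven
  set z := g ^ (orderOf g / 2) with hz
  have hzo : z • o = q := by
    have hhalf : orderOf (g ^ 2) = orderOf g / 2 :=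
      orderOf_pow_of_dvd two_ne_zero (even_iff_two_dvd.1 hgeven)
    obtain ⟨i, hi⟩ := hhalf ▸ hg2odd
    rw [hz, hi, pow_succ', mul_smul, pow_mul, pow_smul_eq hg2o, hgo]
  have hzne : u ≠ z := fun e => hqb (by rw [← hzo, ← e, huo])
  have hzc : z • c = c := hcu _ (show u • z • c = z • c by rw [smul_smul, ← hzu.eq, mul_smul, hc])
  obtain ⟨k, rfl⟩ := QuotientGroup.mk_surjective c
  have huM : k⁻¹ * u * k ∈ M := Cfsg.Agent.SECore.smul_mk_eq_iff.1 hc
  have hzM : k⁻¹ * z * k ∈ M := Cfsg.Agent.SECore.smul_mk_eq_iff.1 hzc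
  have hzL : z ∈ L := pow_mem (mul_mem huL hvL) _
  have hpair : Pair (k⁻¹ * u * k) (k⁻¹ * z * k) := by
    have := Cfsg.Agent.Coprime.OddInvariant.PPrimeNilpotent.Pair.map (⟨hu, hz2, hzu.symm, hzne⟩ : Pair u z) (MulAut.conj k⁻¹).toMonoidHom (MulAut.conj k⁻¹).injective
    simpa using this
  set R' := R.map (MulAut.conj k⁻¹).toMonoidHom with hR'
  have hnorm : ∀ {x : G}, x ∈ L → k⁻¹ * x * k ∈ normalizer (R' : Set G) := fun {x} hx => by
    refine mem_normalizer_fintype fun y hy => ?_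
    obtain ⟨r, hr, rfl⟩ := hy
    exact ⟨x * r * x⁻¹, (mem_normalizer_iff.1 hx r).1 hr, by simp [mul_assoc]⟩
  have hle := h.le_of_pair hpair huM hzM (O := R') (by
    rw [hR', card_map_of_injective (MulAut.conj k⁻¹).injective]
    exact h.odd.of_dvd_nat (Subgroup.card_dvd_of_le inf_le_left)) (hnorm huL) (hnorm hzL)
  refine hcΦ fun x hx => mem_stabilizer_iff.2 (Cfsg.Agent.SECore.smul_mk_eq_iff.2 (h.le (hle ?_)))
  exact ⟨x, hx, by simp⟩

end Cfsg.Agent.CIT.SEOdd
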