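import Cfsg.Agent.Lib.CIT.SEOdd.Count

/-!
# Cosets of `M`: orbits of `K`, and the index bound
-/

set_option autoImplicit false
set_option linter.style.haveILetI false
set_option linter.unusedSectionVars false

namespace Cfsg.Agent.CIT.SEOdd

open Subgroup Cfsg.Agent.Involutions MulAction

universe u

variable {G : Type u} [Group G] [Finite G] {M W : Subgroup G}

/-- An element of `M` fixing the coset `s W` of an involution lies in `K`. -/
theorem Hyp.stab_coset (h : Hyp M W) {s m : G} (hs : s ∈ M) (hs2 : orderOf s = 2) (hm : m ∈ M)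
    (hmem : s * (m * s * m⁻¹) ∈ W) : m ∈ h.K := by
  obtain ⟨d, hd, hds⟩ := Basic.exists_conj_of_odd hs2
    (by rw [Basic.orderOf_conj, hs2] : orderOf (m * s * m⁻¹) = 2) (h.odd_orderOf hmem)
  have hdW : d ∈ W := (zpowers_le.2 hmem) hd
  set c := d⁻¹ * m with hc
  have hcM : c ∈ M := mul_mem (inv_mem (h.le hdW)) hm
  have hcs : Commute c s := by
    have h1 : c * s * c⁻¹ = s := by
      rw [hc, show d⁻¹ * m * s * (d⁻¹ * m)⁻¹ = d⁻¹ * (m * s * m⁻¹) * d by group, ← hds]; group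
    exact mul_inv_eq_iff_eq_mul.1 h1
  obtain ⟨k, j, hj, hord⟩ := Nat.exists_eq_pow_mul_and_not_dvd (orderOf_pos c).ne' 2 (by norm_num)
  have hjo : Odd j := Nat.not_even_iff_odd.1 fun e => hj (even_iff_two_dvd.1 e)
  suffices c ∈ h.K by
    have h2 := mul_mem (h.le_K hdW) this
    rwa [hc, mul_inv_cancel_left] at h2
  refine ⟨hcM, k, h.cent _ (pow_mem hcM _) ?_ s hs hs2 (hcs.pow_left _)⟩
  refine hjo.of_dvd_nat (orderOf_dvd_of_pow_eq_one ?_)
  rw [← pow_mul, ← hord, pow_orderOf_eq_one]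

variable {S : Sylow 2 G} {t : G}

theorem Hyp.eq_one_of_mem (h : Hyp M W) {x : G} (hx : x ∈ (S : Subgroup G)) (hxW : x ∈ W) : x = 1 := by
  haveI : Fact (Nat.Prime 2) := ⟨Nat.prime_two⟩
  obtain ⟨n, hn⟩ := IsPGroup.iff_orderOf.1 S.2 ⟨x, hx⟩
  rw [Subgroup.orderOf_mk] at hn
  rcases n with _ | n
  · exact orderOf_eq_one_iff.1 hn
  · have ho := h.odd_orderOf hxW
    rw [hn] at ho
    exact absurd ho (by simp [Nat.not_odd_iff_even, Nat.even_pow])

theorem Hyp.central (h : Hyp M W) (hS : (S : Subgroup G) ≤ h.K) (ht : CenInv S t) (htM : t ∈ M)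
    {s : G} (hs : s ∈ (S : Subgroup G)) (hs2 : orderOf s = 2) {x : G} (hx : x ∈ (S : Subgroup G)) :
    s * x = x * s := by
  obtain ⟨m, hm⟩ := isConj_iff.1 (StronglyEmbedded.isConj_involutions h.emb ht.order hs2)
  have hmM : m ∈ M := StronglyEmbedded.mem_of_conj h.emb htM ht.order (hm ▸ (hS hs).1)
  haveI := Fintype.ofFinite G
  have hk : m⁻¹ * x * m ∈ h.K := by
    have := h.conj_mem_K (inv_mem hmM) (hS hx)
    rwa [inv_inv] at this
  have h1 := h.norm m hmM _ (h.comm_mod hS htM ht.order ht.comm hk)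
  rw [show m * (t * (m⁻¹ * x * m * t * (m⁻¹ * x * m)⁻¹)) * m⁻¹ =
    (m * t * m⁻¹) * (x * (m * t * m⁻¹) * x⁻¹) by group, hm] at h1
  have h2 := h.eq_one_of_mem (S := S) (mul_mem hs (mul_mem (mul_mem hx hs) (inv_mem hx))) h1
  rw [mul_eq_one_iff_eq_inv', Basic.inv_eq hs2, mul_inv_eq_iff_eq_mul] at h2
  exact h2.symm

/-- The involutions of `S` and `1`. -/
def Hyp.Z (h : Hyp M W) (hS : (S : Subgroup G) ≤ h.K) (ht : CenInv S t) (htM : t ∈ M) : Subgroup G where
  carrier := {s | s ∈ (S : Subgroup G) ∧ s * s = 1}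
  one_mem' := ⟨one_mem _, one_mul 1⟩
  mul_mem' {a b} ha hb := ⟨mul_mem ha.1 hb.1, by
    by_cases h1 : a = 1
    · rw [h1, one_mul]; exact hb.2
    · rw [show a * b * (a * b) = a * (b * a) * b by group,
        ← h.central hS ht htM ha.1 (Basic.orderOf_two_iff.2 ⟨ha.2, h1⟩) hb.1,
        show a * (a * b) * b = a * a * (b * b) by group, ha.2, hb.2, one_mul]⟩
  inv_mem' {a} ha := ⟨inv_mem ha.1, by rw [← mul_inv_rev, ha.2, inv_one]⟩

theorem Hyp.card_Z_dvd (h : Hyp M W) (hS : (S : Subgroup G) ≤ h.K) (ht : CenInv S t) (htM : t ∈ M) :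
    Nat.card (h.Z hS ht htM) ∣ Nat.card (S : Subgroup G) :=
  Subgroup.card_dvd_of_le fun _ hx => hx.1

theorem Hyp.relIndex_lt (h : Hyp M W) (hS : (S : Subgroup G) ≤ h.K) (ht : CenInv S t) (htM : t ∈ M) :
    h.K.relIndex M + 1 ≤ Nat.card (h.Z hS ht htM) := by
  classical
  haveI : Fact (Nat.Prime 2) := ⟨Nat.prime_two⟩
  haveI := Fintype.ofFinite G
  have hdec : ∀ k ∈ h.K, ∃ s ∈ (S : Subgroup G), s⁻¹ * k ∈ W := fun k hk => by
    have hinj : Function.Injective (fun p : ↥(S : Subgroup G) × W =>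
        (⟨(p.1 : G) * p.2, mul_mem (hS p.1.2) (h.le_K p.2.2)⟩ : h.K)) := by
      rintro ⟨s, w⟩ ⟨s', w'⟩ e
      have e' : (s : G) * w = s' * w' := congrArg Subtype.val e
      have hd : (s' : G)⁻¹ * s = w' * (w : G)⁻¹ := by
        rw [eq_mul_inv_iff_mul_eq, mul_assoc, e', inv_mul_cancel_left]
      have h1 := h.eq_one_of_mem (S := S) (mul_mem (inv_mem s'.2) s.2) (hd ▸ mul_mem w'.2 (inv_mem w.2))
      obtain rfl : s = s' := Subtype.ext (inv_mul_eq_one.1 h1).symm
      exact Prod.ext rfl (Subtype.ext (mul_left_cancel e'))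
    obtain ⟨⟨s, w⟩, e⟩ := ((Nat.bijective_iff_injective_and_card _).2
      ⟨hinj, by rw [Nat.card_prod, h.card_K hS, mul_comm]⟩).2 ⟨k, hk⟩
    refine ⟨s, s.2, ?_⟩
    have e' : (s : G) * w = k := congrArg Subtype.val e
    rw [← e', inv_mul_cancel_left]
    exact w.2
  have hinv : ∀ m ∈ M, ∃ s ∈ (S : Subgroup G), orderOf s = 2 ∧ s * (m * t * m⁻¹) ∈ W := by
    intro m hm
    obtain ⟨s, hs, hsW⟩ := hdec _ (h.conj_mem_K hm (hS ht.mem))
    have hi2 : orderOf (m * t * m⁻¹) = 2 := by rw [Basic.orderOf_conj, ht.order]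
    have hss : s * s = 1 := by
      refine h.eq_one_of_mem (S := S) (mul_mem hs hs) ?_
      set i := m * t * m⁻¹
      set w := s⁻¹ * i with hw
      have hi : i = s * w := by rw [hw, mul_inv_cancel_left]
      have h3 : s * s * (s⁻¹ * w * s * w) = 1 := by
        rw [show s * s * (s⁻¹ * w * s * w) = s * w * (s * w) by group, ← hi, Basic.inv_sq_one hi2]
      have h4 : s⁻¹ * w * s * w ∈ W := by
        refine mul_mem ?_ hsW
        have := h.norm s⁻¹ (inv_mem (hS hs).1) w hsW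
        rwa [inv_inv] at this
      rw [eq_inv_of_mul_eq_one_left h3]
      exact inv_mem h4
    have hs1 : s ≠ 1 := fun e => by
      rw [e, inv_one, one_mul] at hsW
      exact h.orderOf_ne_two hsW hi2
    have hs2 := Basic.orderOf_two_iff.2 ⟨hss, hs1⟩
    exact ⟨s, hs, hs2, by rwa [Basic.inv_eq hs2] at hsW⟩
  choose f hfS hf2 hfW using hinv
  set Z := h.Z hS ht htM
  have hmap : ∀ m : M, f m m.2 ∈ Z := fun m =>
    ⟨hfS _ _, Basic.inv_sq_one (hf2 _ _)⟩
  have key : ∀ m m' : M, f m m.2 = f m' m'.2 → (m' : G)⁻¹ * m ∈ h.K := fun m m' e => by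
    refine h.stab_coset htM ht.order (mul_mem (inv_mem m'.2) m.2) ?_
    have h1 := mul_mem (inv_mem (hfW _ m'.2)) (hfW _ m.2)
    rw [e, mul_inv_rev, Basic.inv_eq (by rw [Basic.orderOf_conj, ht.order] :
      orderOf ((m' : G) * t * (m' : G)⁻¹) = 2), Basic.inv_eq (hf2 _ m'.2),
      show (m' : G) * t * (m' : G)⁻¹ * f m' m'.2 * (f m' m'.2 * ((m : G) * t * (m : G)⁻¹)) =
        (m' : G) * t * (m' : G)⁻¹ * (f m' m'.2 * f m' m'.2) * ((m : G) * t * (m : G)⁻¹) by group,
      Basic.inv_sq_one (hf2 _ m'.2), mul_one] at h1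
    have h2 := h.norm (m' : G)⁻¹ (inv_mem m'.2) _ h1
    rwa [show (m' : G)⁻¹ * ((m' : G) * t * (m' : G)⁻¹ * ((m : G) * t * (m : G)⁻¹)) * (m' : G)⁻¹⁻¹ =
      t * ((m' : G)⁻¹ * m * t * ((m' : G)⁻¹ * m)⁻¹) by group] at h2
  have hle : Nat.card (M ⧸ h.K.subgroupOf M) ≤ Nat.card {z : Z // z ≠ 1} := by
    refine Nat.card_le_card_of_injective (fun c => (⟨⟨f c.out c.out.2, hmap _⟩, fun e =>
      Basic.ne_one (hf2 _ c.out.2) (congrArg Subtype.val e)⟩ : {z : Z // z ≠ 1})) fun c d e => ?_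
    rw [← QuotientGroup.out_eq' c, ← QuotientGroup.out_eq' d, eq_comm, QuotientGroup.eq]
    exact key _ _ (congrArg (fun z : {z : Z // z ≠ 1} => ((z : Z) : G)) e)
  haveI := Fintype.ofFinite Z
  have hc : Nat.card {z : Z // z ≠ 1} + 1 = Nat.card Z := by
    simp only [Nat.card_eq_fintype_card, Fintype.card_subtype_compl, Fintype.card_subtype_eq]
    have := Fintype.card_pos (α := Z)
    omega
  rw [Subgroup.relIndex, Subgroup.index]
  omega

theorem Hyp.four_le_Z (h : Hyp M W) (hS : (S : Subgroup G) ≤ h.K) (ht : CenInv S t) (htM : t ∈ M) :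
    4 ≤ Nat.card (h.Z hS ht htM) := by
  haveI : Fact (Nat.Prime 2) := ⟨Nat.prime_two⟩
  obtain ⟨a, b, -, -, hab⟩ := h.pair
  obtain ⟨T, hT⟩ := hab.isPGroup.exists_le_sylow
  obtain ⟨g, hg⟩ := MulAction.exists_smul_eq G T S
  have hm : ∀ {x : G}, x ∈ closure ({a, b} : Set G) → g * x * g⁻¹ ∈ (S : Subgroup G) := fun {x} hx => by
    rw [← hg]
    exact Subgroup.smul_mem_pointwise_smul _ (MulAut.conj g) _ (hT hx)
  have ha := hm (subset_closure (Or.inl rfl))
  have hb := hm (subset_closure (Or.inr rfl))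
  have hab' := hab.map (MulAut.conj g).toMonoidHom (MulAut.conj g).injective
  obtain ⟨k, hk⟩ := IsPGroup.iff_card.1 hab'.isPGroup
  have h4 : 4 ≤ Nat.card (closure ({(MulAut.conj g) a, (MulAut.conj g) b} : Set G)) := by
    rcases k with _ | _ | k
    · exact absurd (by
        haveI := (Nat.card_eq_one_iff_unique.1 hk).1
        infer_instance) hab'.not_isCyclic
    · exact absurd (isCyclic_of_prime_card (by simpa using hk)) hab'.not_isCyclic
    · calc 4 = 2 ^ 2 := by norm_num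
        _ ≤ 2 ^ (k + 1 + 1) := Nat.pow_le_pow_right two_pos (by omega)
        _ = _ := hk.symm
  refine h4.trans (Subgroup.card_le_of_le ((closure_le _).2 ?_))
  rintro x (rfl | rfl)
  · exact ⟨ha, Basic.inv_sq_one hab'.1⟩
  · exact ⟨hb, Basic.inv_sq_one hab'.2.1⟩

/-- The index bound from the count. -/
theorem Hyp.index_bound (h : Hyp M W) (hS : (S : Subgroup G) ≤ h.K) {β : ℝ}
    (hb : ∀ (n : ℕ) (ρ : Representation ℂ G (Fin n → ℂ)), ρ.IsIrreducible → ∀ χ : Cfsg.IrrCharacter G,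
      ρ.character = (χ : G → ℂ) → χ ≠ Characters.trivIrr G →
        (Nat.card W : ℝ) * Module.finrank ℂ (fixed ρ W) - Nat.card h.K * Module.finrank ℂ (fixed ρ h.K)
          ≤ β * Nat.card W * n) :
    (1 - β) * M.index * ((Nat.card (S : Subgroup G) : ℝ) - 1) ≤
      (Nat.card (S : Subgroup G) : ℝ) * ((h.K.relIndex M : ℝ) - 1) := by
  haveI := Fintype.ofFinite G
  have h1 := h.count hb
  have hG : (Nat.card G : ℝ) = (Nat.card M : ℝ) * M.index := by exact_mod_cast M.card_mul_index.symm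
  have hM : (Nat.card M : ℝ) = (Nat.card h.K : ℝ) * h.K.relIndex M := by
    exact_mod_cast (by
      rw [Subgroup.relIndex, ← Nat.card_congr (subgroupOfEquivOfLe h.K_le).toEquiv]
      exact (h.K.subgroupOf M).card_mul_index.symm :
        Nat.card M = Nat.card h.K * h.K.relIndex M)
  have hK : (Nat.card h.K : ℝ) = Nat.card W * Nat.card (S : Subgroup G) := by
    exact_mod_cast h.card_K hS
  have hM0 : (0 : ℝ) < Nat.card M := by exact_mod_cast Nat.card_pos
  have hW0 : (0 : ℝ) < Nat.card W := by exact_mod_cast Nat.card_pos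
  refine le_of_mul_le_mul_left ?_ (mul_pos hM0 hW0)
  calc (Nat.card M : ℝ) * Nat.card W * ((1 - β) * M.index * ((Nat.card (S : Subgroup G) : ℝ) - 1))
      = (1 - β) * Nat.card G * ((Nat.card h.K : ℝ) - Nat.card W) := by rw [hG, hK]; ring
    _ ≤ (Nat.card M : ℝ) * ((Nat.card M : ℝ) - Nat.card h.K) := h1
    _ = _ := by
      rw [show (Nat.card M : ℝ) - Nat.card h.K = Nat.card h.K * ((h.K.relIndex M : ℝ) - 1) by
        rw [hM]; ring, hK]
      ring

/-! ## The action on the cosets -/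

theorem smul_one_iff {x : G} : x • ((1 : G) : G ⧸ M) = ((1 : G) : G ⧸ M) ↔ x ∈ M := by
  show ((x * 1 : G) : G ⧸ M) = _ ↔ _
  rw [mul_one, QuotientGroup.eq, mul_one, inv_mem_iff]

/-- An element of `K` outside `W` fixes only the coset `M`. -/
theorem Hyp.eq_one_of_fix (h : Hyp M W) {x : G} (hx : x ∈ h.K) (hxW : x ∉ W) {b : G ⧸ M}
    (hb : x • b = b) : b = ((1 : G) : G ⧸ M) := by
  obtain ⟨j, hj⟩ := h.exists_invol_pow hx hxW
  have hp : ∀ {p : G ⧸ M}, x • p = p → x ^ j • p = p := fun {p} hp => by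
    clear hj
    induction j with
    | zero => simp
    | succ j ih => rw [pow_succ, mul_smul, hp]; exact ih
  exact (StronglyEmbedded.existsUnique_fixed h.emb hj).unique (hp hb) (hp (smul_one_iff.2 hx.1))

/-- A set of cosets other than `M`, stable under `S`, has size divisible by `|S|`. -/
theorem Hyp.dvd_card (h : Hyp M W) (hS : (S : Subgroup G) ≤ h.K) (P : Set (G ⧸ M))
    (h1 : ((1 : G) : G ⧸ M) ∉ P) (hP : ∀ s ∈ (S : Subgroup G), ∀ p ∈ P, s • p ∈ P) :
    Nat.card (S : Subgroup G) ∣ Nat.card P := by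
  classical
  letI : MulAction (S : Subgroup G) P :=
    { smul := fun s p => ⟨(s : G) • (p : G ⧸ M), hP _ s.2 _ p.2⟩
      one_smul := fun p => Subtype.ext (one_smul G (p : G ⧸ M))
      mul_smul := fun s s' p => Subtype.ext (mul_smul (s : G) (s' : G) (p : G ⧸ M)) }
  haveI := Fintype.ofFinite (orbitRel.Quotient (S : Subgroup G) P)
  rw [Nat.card_congr (selfEquivSigmaOrbitsQuotientStabilizer (S : Subgroup G) P), Nat.card_sigma]
  refine Finset.dvd_sum fun ω _ => ?_
  have hbot : stabilizer (S : Subgroup G) ω.out = ⊥ := by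
    rw [eq_bot_iff]
    intro s hs
    rw [mem_bot]
    by_contra hs1
    have hsW : (s : G) ∉ W := fun e => hs1 (Subtype.ext (h.eq_one_of_mem s.2 e))
    exact h1 (h.eq_one_of_fix (hS s.2) hsW (congrArg Subtype.val hs) ▸ (ω.out).2)
  rw [show Nat.card ((S : Subgroup G) ⧸ stabilizer (S : Subgroup G) ω.out) =
    (stabilizer (S : Subgroup G) ω.out).index from rfl, hbot, Subgroup.index_bot]

/-- The stabiliser in `W` of a coset. -/
abbrev stabW (W : Subgroup G) {M : Subgroup G} (b : G ⧸ M) : Subgroup G := W ⊓ stabilizer G b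

theorem Hyp.orbit_one_notMem (h : Hyp M W) {b : G ⧸ M} (hb : b ≠ ((1 : G) : G ⧸ M)) :
    ((1 : G) : G ⧸ M) ∉ orbit h.K b := by
  rintro ⟨k, hk⟩
  apply hb
  rw [show b = (k : G)⁻¹ • ((k : G) • b) by rw [inv_smul_smul],
    show (k : G) • b = ((1 : G) : G ⧸ M) from hk]
  exact smul_one_iff.2 (inv_mem k.2.1)

theorem Hyp.card_orbit_K (h : Hyp M W) (hS : (S : Subgroup G) ≤ h.K) {b : G ⧸ M}
    (hb : b ≠ ((1 : G) : G ⧸ M)) :
    (orbit h.K b).ncard * Nat.card (stabW W b) = Nat.card W * Nat.card (S : Subgroup G) := by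
  have e : Nat.card (stabilizer h.K b) = Nat.card (stabW W b) := by
    refine Nat.card_congr
      { toFun := fun k => ⟨((k : h.K) : G), by
          refine Subgroup.mem_inf.2 ⟨?_, mem_stabilizer_iff.2 k.2⟩
          by_contra hW
          exact hb (h.eq_one_of_fix (k : h.K).2 hW k.2)⟩
        invFun := fun x => ⟨⟨x, h.le_K x.2.1⟩, x.2.2⟩
        left_inv := fun k => rfl
        right_inv := fun x => rfl }
  rw [← index_stabilizer, ← e, mul_comm, Subgroup.card_mul_index, h.card_K hS]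

/-- A coset moved by `W` lies in a `K`-orbit of at least `3 |S|` cosets. -/
theorem Hyp.three_le_index (h : Hyp M W) {b : G ⧸ M} (hmov : ¬ W ≤ stabilizer G b) :
    3 * Nat.card (stabW W b) ≤ Nat.card W := by
  have h1 := ((stabW W b).subgroupOf W).card_mul_index
  rw [Nat.card_congr (subgroupOfEquivOfLe (inf_le_left : stabW W b ≤ W)).toEquiv] at h1
  have hodd : Odd ((stabW W b).subgroupOf W).index := h.odd.of_dvd_nat (Dvd.intro_left _ h1)
  have hne : ((stabW W b).subgroupOf W).index ≠ 1 := fun e => hmov (by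
    rw [index_eq_one, subgroupOf_eq_top] at e
    exact e.trans inf_le_right)
  obtain ⟨j, hj⟩ := hodd
  rw [← h1, mul_comm]
  exact Nat.mul_le_mul_left _ (by omega)

theorem Hyp.orbit_ge (h : Hyp M W) (hS : (S : Subgroup G) ≤ h.K) {b : G ⧸ M}
    (hb : b ≠ ((1 : G) : G ⧸ M)) (hmov : ¬ W ≤ stabilizer G b) :
    3 * Nat.card (S : Subgroup G) ≤ (orbit h.K b).ncard := by
  have h1 := h.card_orbit_K hS hb
  have h2 := h.three_le_index hmov
  have h0 : 0 < Nat.card (stabW W b) := Nat.card_pos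
  refine Nat.le_of_mul_le_mul_right ?_ h0
  rw [h1]
  calc 3 * Nat.card (S : Subgroup G) * Nat.card (stabW W b)
      = 3 * Nat.card (stabW W b) * Nat.card (S : Subgroup G) := by ring
    _ ≤ _ := Nat.mul_le_mul_right _ h2

end Cfsg.Agent.CIT.SEOdd
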