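import Cfsg.Agent.Lib.CIT.SEOdd.Bound

/-!
# The small case left by the index bound

`|S| = q`, the cosets other than `M` form one orbit of `K` of size `3 q`, and `W` has index 3 over each of
its stabilisers there.
-/

set_option autoImplicit false
set_option linter.style.haveILetI false
set_option linter.unusedSectionVars false

namespace Cfsg.Agent.CIT.SEOdd

open Subgroup Cfsg.Agent.Involutions MulAction

universe u

variable {G : Type u} [Group G] [Finite G] {M W : Subgroup G}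

/-- What is left by the index bound. -/
structure Small (h : Hyp M W) (S : Sylow 2 G) : Prop where
  le_K : (S : Subgroup G) ≤ h.K
  invol : ∀ s ∈ (S : Subgroup G), s ≠ 1 → orderOf s = 2
  trans : ∀ b b' : G ⧸ M, b ≠ ((1 : G) : G ⧸ M) → b' ≠ ((1 : G) : G ⧸ M) → b' ∈ orbit h.K b
  index_three : ∀ b : G ⧸ M, b ≠ ((1 : G) : G ⧸ M) → 3 * Nat.card (stabW W b) = Nat.card W
  core : M.normalCore = ⊥

theorem Hyp.normalCore_eq_bot (h : Hyp M W) (hO : Cfsg.oddCore G = ⊥) : M.normalCore = ⊥ := by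
  refine eq_bot_of_normal_odd hO inferInstance (Nat.not_even_iff_odd.1 fun he => ?_)
  obtain ⟨i, hiN, hi⟩ := StronglyEmbedded.exists_involution_mem he
  obtain ⟨u, huM, hu⟩ := StronglyEmbedded.exists_involution_notMem h.emb
  obtain ⟨g, hg⟩ := isConj_iff.1 (StronglyEmbedded.isConj_involutions h.emb hi hu)
  exact huM (M.normalCore_le (hg ▸ (inferInstance : M.normalCore.Normal).conj_mem i hiN g))

theorem Hyp.exists_moved (h : Hyp M W) (hO : Cfsg.oddCore G = ⊥) (hW : W ≠ ⊥) :
    ∃ b : G ⧸ M, b ≠ ((1 : G) : G ⧸ M) ∧ ¬ W ≤ stabilizer G b := by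
  by_contra hne
  push Not at hne
  refine hW (eq_bot_iff.2 fun w hw => (h.normalCore_eq_bot hO) ▸ ?_)
  intro g
  by_cases hg : ((g⁻¹ : G) : G ⧸ M) = ((1 : G) : G ⧸ M)
  · rw [QuotientGroup.eq, inv_inv, mul_one] at hg
    exact mul_mem (mul_mem hg (h.le hw)) (inv_mem hg)
  · have := mem_stabilizer_iff.1 (hne _ hg hw)
    rw [Cfsg.Agent.SECore.smul_mk_eq_iff, inv_inv] at this
    exact this

theorem Hyp.small (h : Hyp M W) (hmin : Minimal G) (hO : Cfsg.oddCore G = ⊥) (hW : W ≠ ⊥) :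
    ∃ S : Sylow 2 G, Small h S := by
  classical
  haveI := Fintype.ofFinite G
  obtain ⟨S, t, hS, ht, htM⟩ := h.exists_sylow
  have hq4 := h.four_le_Z hS ht htM
  have hr := h.relIndex_lt hS ht htM
  have hdvd := h.card_Z_dvd hS ht htM
  have hbound := h.index_le hmin hO hW hS
  set c := Nat.card (S : Subgroup G) with hc
  set q := Nat.card (h.Z hS ht htM) with hq
  set o : G ⧸ M := ((1 : G) : G ⧸ M) with ho
  have hcard : Nat.card {p : G ⧸ M // p ≠ o} + 1 = M.index := by
    haveI := Fintype.ofFinite (G ⧸ M)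
    rw [Subgroup.index]
    simp only [Nat.card_eq_fintype_card, Fintype.card_subtype_compl, Fintype.card_subtype_eq]
    have := Fintype.card_pos_iff.2 ⟨o⟩
    omega
  set P : Set (G ⧸ M) := {p | p ≠ o} with hP
  have hPdvd : c ∣ P.ncard := by
    rw [← Nat.card_coe_set_eq]
    refine h.dvd_card hS P (fun e => e rfl) fun s hs p hp e => hp ?_
    rw [show p = s⁻¹ • (s • p) by rw [inv_smul_smul], e]
    exact smul_one_iff.2 (inv_mem (hS hs).1)
  have hn : P.ncard + 1 = M.index := by rw [← Nat.card_coe_set_eq]; exact hcard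
  have horb : ∀ b, b ≠ o → orbit h.K b ⊆ P := fun b hb p hp e =>
    h.orbit_one_notMem hb (show o ∈ orbit h.K b from (show p = o from e) ▸ hp)
  obtain ⟨b₀, hb₀, hb₀W⟩ := h.exists_moved hO hW
  have h3 : 3 * c ≤ P.ncard := (h.orbit_ge hS hb₀ hb₀W).trans (Set.ncard_le_ncard (horb _ hb₀))
  have hnat : (P.ncard + 1) * (c - 1) ≤ 5 * c * (q - 2) := by
    have hc1 : 1 ≤ c := Nat.card_pos
    have hr' : ((h.K.relIndex M : ℝ) - 1) ≤ ((q : ℝ) - 2) := by
      have : ((h.K.relIndex M : ℝ) + 1) ≤ q := by exact_mod_cast hr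
      linarith
    have h5 : (0 : ℝ) ≤ 5 * (c : ℝ) := by positivity
    have := hbound.trans (mul_le_mul_of_nonneg_left hr' h5)
    rw [← hn] at this
    have e1 : (((P.ncard + 1) * (c - 1) : ℕ) : ℝ) ≤ ((5 * c * (q - 2) : ℕ) : ℝ) := by
      push_cast [Nat.cast_sub hc1, Nat.cast_sub (show 2 ≤ q by omega)]
      push_cast at this
      linarith
    exact_mod_cast e1
  obtain ⟨j, hj⟩ := hdvd
  have hcpos : 0 < c := Nat.card_pos
  have hcq : c = q := by
    rcases j with _ | _ | j
    · simp only [mul_zero] at hj; omega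
    · simpa using hj
    · exfalso
      have h2q : 2 * q ≤ c := by rw [hj]; nlinarith
      obtain ⟨c', hc'⟩ : ∃ c', c = c' + 1 := ⟨c - 1, by omega⟩
      obtain ⟨q', hq'⟩ : ∃ q', q = q' + 2 := ⟨q - 2, by omega⟩
      rw [hc'] at hnat h3 h2q
      rw [hq'] at hnat h2q
      simp only [Nat.add_sub_cancel] at hnat
      nlinarith
  have hZS : h.Z hS ht htM = (S : Subgroup G) :=
    Subgroup.eq_of_le_of_card_ge (fun x hx => hx.1) (by rw [← hq, ← hcq])
  have hinvol : ∀ s ∈ (S : Subgroup G), s ≠ 1 → orderOf s = 2 := fun s hs hs1 =>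
    Basic.orderOf_two_iff.2 ⟨((hZS.symm ▸ hs : s ∈ h.Z hS ht htM)).2, hs1⟩
  obtain ⟨K', hK'⟩ := hPdvd
  have hK5 : K' ≤ 4 := by
    rw [hcq] at hK' h3 hnat
    rw [hK'] at hnat h3
    obtain ⟨q', hq'⟩ : ∃ q', q = q' + 4 := ⟨q - 4, by omega⟩
    rw [hq'] at hnat
    by_contra hcon
    rw [show q' + 4 - 1 = q' + 3 by omega, show q' + 4 - 2 = q' + 2 by omega] at hnat
    nlinarith [Nat.mul_le_mul_right ((q' + 4) * (q' + 3)) (show 5 ≤ K' by omega)]
  -- `W` moves every coset other than `M`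
  have hmoved : ∀ b, b ≠ o → ¬ W ≤ stabilizer G b := by
    intro b hb hfix
    set N := normalizer (W : Set G) with hN
    have hfixN : ∀ p : G ⧸ M, W ≤ stabilizer G p → p ∈ orbit N o := by
      intro p hp
      obtain ⟨g, rfl⟩ := QuotientGroup.mk_surjective p
      have hmem : ∀ w ∈ W, g⁻¹ * w * g ∈ W := fun w hw =>
        h.mem_of_conj (g := g) (Cfsg.Agent.SECore.smul_mk_eq_iff.1 (hp hw)) (by
          rwa [show g * (g⁻¹ * w * g) * g⁻¹ = w by group])
      have hg : g⁻¹ ∈ N := mem_normalizer_fintype fun w hw => by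
        rw [inv_inv]; exact hmem w hw
      exact ⟨⟨g, by simpa using inv_mem hg⟩, by
        show g • o = _; rw [ho]; show ((g * 1 : G) : G ⧸ M) = _; rw [mul_one]⟩
    set F : Set (G ⧸ M) := orbit N o with hF
    have hFcard : F.ncard = M.relIndex N := by
      rw [hF, ← index_stabilizer, Subgroup.relIndex]
      congr 1
      ext x
      exact smul_one_iff
    have hMN : M ≤ N := h.le_normalizer
    have hFdvd : F.ncard ∣ M.index := hFcard ▸ Dvd.intro _ (relIndex_mul_index hMN)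
    have hFo : o ∈ F := mem_orbit_self o
    have hFS : c ∣ (F \ {o}).ncard := by
      rw [← Nat.card_coe_set_eq]
      refine h.dvd_card hS _ (fun e => e.2 rfl) fun s hs p hp => ⟨?_, fun e => hp.2 ?_⟩
      · exact (mem_orbit_of_mem_orbit (⟨s, hMN (hS hs).1⟩ : N) hp.1 : _)
      · rw [Set.mem_singleton_iff] at e ⊢
        rw [show p = s⁻¹ • (s • p) by rw [inv_smul_smul], e]
        exact smul_one_iff.2 (inv_mem (hS hs).1)
    have hpos : 0 < (F \ {o}).ncard := (Set.ncard_pos (Set.toFinite _)).2 ⟨b, hfixN b hfix, hb⟩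
    have hF1 : (F \ {o}).ncard + 1 = F.ncard := Set.ncard_sdiff_singleton_add_one hFo (Set.toFinite _)
    have hdisj : Disjoint (orbit h.K b₀) (F \ {o}) := by
      rw [Set.disjoint_left]
      rintro _ ⟨k, rfl⟩ hkF
      have hb₀F : b₀ ∈ F := by
        have := mem_orbit_of_mem_orbit (⟨(k : G)⁻¹, hMN (inv_mem k.2.1)⟩ : N) hkF.1
        rwa [show (⟨(k : G)⁻¹, hMN (inv_mem k.2.1)⟩ : N) • (k • b₀) = b₀ from inv_smul_smul (k : G) b₀]
          at this
      obtain ⟨⟨g, hg⟩, hgb⟩ := hb₀F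
      refine hb₀W fun w hw => ?_
      rw [mem_stabilizer_iff, ← hgb]
      show w • g • o = g • o
      rw [show w • g • o = g • (g⁻¹ * w * g) • o by simp [smul_smul, mul_assoc],
        smul_one_iff.2 (h.le ?_)]
      have := (mem_normalizer_iff.1 (inv_mem hg) w).1 hw
      rwa [inv_inv] at this
    have hsum : 3 * c + (F \ {o}).ncard ≤ P.ncard := by
      refine le_trans ?_ (Set.ncard_le_ncard (Set.union_subset (horb _ hb₀) fun (p : G ⧸ M) (hp : p ∈ F \ {o}) (e : p = o) => hp.2 e))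
      rw [Set.ncard_union_eq hdisj]
      exact Nat.add_le_add_right (h.orbit_ge hS hb₀ hb₀W) _
    obtain ⟨j, hj⟩ := hFS
    have hj1 : j = 1 := by
      have hjpos : 0 < j := Nat.pos_of_ne_zero fun e => by rw [e, mul_zero] at hj; omega
      rw [hK', hj] at hsum
      have : c * (3 + j) ≤ c * K' := by rw [mul_add]; linarith
      have := Nat.le_of_mul_le_mul_left this hcpos
      omega
    have hK4 : K' = 4 := by
      rw [hK', hj, hj1] at hsum
      have : c * 4 ≤ c * K' := by linarith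
      have := Nat.le_of_mul_le_mul_left this hcpos
      omega
    rw [← hn, hK', hK4, ← hF1, hj, hj1, mul_one] at hFdvd
    have hq34 : c + 1 ∣ 4 * (c + 1) - (c * 4 + 1) := Nat.dvd_sub (dvd_mul_left _ _) hFdvd
    rw [show 4 * (c + 1) - (c * 4 + 1) = 3 by omega] at hq34
    have := Nat.le_of_dvd (by norm_num) hq34
    omega
  -- every orbit of `K` has `3 q` cosets
  have hsize : ∀ b, b ≠ o → (orbit h.K b).ncard = 3 * c ∧ 3 * Nat.card (stabW W b) = Nat.card W := by
    intro b hb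
    have h1 := h.card_orbit_K hS hb
    have h2 := h.three_le_index (hmoved b hb)
    have h4 : (orbit h.K b).ncard ≤ c * 4 :=
      ((Set.ncard_le_ncard (horb _ hb)).trans_eq hK').trans (Nat.mul_le_mul_left _ hK5)
    have hr0 : 0 < Nat.card (stabW W b) := Nat.card_pos
    obtain ⟨k, hk⟩ : Nat.card (stabW W b) ∣ Nat.card W := Subgroup.card_dvd_of_le inf_le_left
    rw [hk] at h1 h2 ⊢
    have h1' : (orbit h.K b).ncard = k * c :=
      Nat.eq_of_mul_eq_mul_right hr0 (h1.trans (by ring))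
    have hk3 : 3 ≤ k := Nat.le_of_mul_le_mul_left ((mul_comm _ _).trans_le h2) hr0
    have hk4 : k ≤ 4 := Nat.le_of_mul_le_mul_left
      (show c * k ≤ c * 4 by rw [mul_comm c k, ← h1']; exact h4) hcpos
    have hodd : Odd k := h.odd.of_dvd_nat (Dvd.intro_left _ hk.symm)
    obtain ⟨i, hi⟩ := hodd
    have : k = 3 := by omega
    exact ⟨by rw [h1', this], by rw [this, mul_comm]⟩
  refine ⟨S, hS, hinvol, fun b b' hb hb' => ?_, fun b hb => (hsize b hb).2,
    h.normalCore_eq_bot hO⟩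
  by_contra hb'n
  have hdisj : Disjoint (orbit h.K b) (orbit h.K b') := by
    rw [Set.disjoint_left]
    intro p hp hp'
    exact hb'n ((orbit_eq_iff.1 ((orbit_eq_iff.2 hp').symm.trans (orbit_eq_iff.2 hp))))
  have h6 := Set.ncard_le_ncard (Set.union_subset (horb _ hb) (horb _ hb'))
  rw [Set.ncard_union_eq hdisj, (hsize b hb).1, (hsize b' hb').1, hK'] at h6
  have : c * 6 ≤ c * 4 := le_trans (by linarith) (Nat.mul_le_mul_left _ hK5)
  omega

end Cfsg.Agent.CIT.SEOdd
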